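import Cfsg.Agent.Lib.Blocks.EqualDegree.Idem
import Cfsg.Agent.Lib.Blocks.MinMax

/-!
# Blocks with equal degrees: the center of the modular block algebra
-/

namespace CfsgLib.Blocks.EqualDegree

open Cfsg CfsgLib.CharTheory CfsgLib.Blocks CfsgLib.Blocks.Star CfsgLib.BlockDegreeSquares
open MonoidAlgebra (single)
open scoped ComplexConjugate

set_option linter.unusedVariables false
set_option linter.unusedSectionVars false
set_option linter.unusedSimpArgs false
set_option linter.style.haveILetI false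

universe u

variable {p : ℕ} {M : Ideal AlgInt} {G : Type u} [Group G] [Fintype G]

/-- Reduction of the group algebra over the local ring. -/
noncomputable def rd (hM : IsPModular p M) : RG hM G →+* MonoidAlgebra (AlgInt ⧸ M) G :=
  MonoidAlgebra.mapRingHom G (resHom hM)

theorem coeff_rd (hM : IsPModular p M) (x : RG hM G) (g : G) :
    (rd hM x).coeff g = res hM (toC x g) := MonoidAlgebra.coeff_mapRingHom _ _ _

/-- The modular idempotent of a block. -/
noncomputable def epsB (hM : IsPModular p M) (B : Set (IrrCharacter G)) :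
    MonoidAlgebra (AlgInt ⧸ M) G :=
  ofFn fun g => res hM (blockCoeff B g)

theorem rd_blockE (hM : IsPModular p M) {B : Set (IrrCharacter G)} (hB : IsPBlock M B) :
    rd hM (toO hM (blockCoeff B)) = epsB hM B :=
  ext_coeff fun g => by
    rw [coeff_rd, toC_toO hM (memRing_blockCoeff hM hB), epsB, coeff_ofFn]

theorem epsB_idem (hM : IsPModular p M) {B : Set (IrrCharacter G)} (hB : IsPBlock M B) :
    epsB hM B * epsB hM B = epsB hM B := by
  rw [← rd_blockE hM hB, ← map_mul, blockE_idem hM hB]

theorem coeff_conj_of_central {k : Type*} [CommRing k] {y : MonoidAlgebra k G}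
    (h : ∀ x, y * x = x * y) (t g : G) : y.coeff (t * g * t⁻¹) = y.coeff g := by
  have h1 : cj t⁻¹ y = y := (cj_eq_iff _ _).2 (h _).symm
  conv_rhs => rw [← h1, coeff_cj, inv_inv]

theorem central_of_coeff_conj {k : Type*} [CommRing k] {y : MonoidAlgebra k G}
    (h : ∀ t g, y.coeff (t * g * t⁻¹) = y.coeff g) (x : MonoidAlgebra k G) :
    y * x = x * y := by
  induction x using MonoidAlgebra.induction_linear with
  | zero => simp
  | add a b ha hb => rw [mul_add, add_mul, ha, hb]
  | single t a =>
    refine ext_coeff fun g => ?_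
    rw [MonoidAlgebra.coeff_mul_single_apply, MonoidAlgebra.coeff_single_mul_apply, mul_comm]
    congr 1
    rw [← h t (t⁻¹ * g)]
    group

theorem coeff_mul_comm_one {k : Type*} [CommRing k] (a b : MonoidAlgebra k G) :
    (a * b).coeff 1 = (b * a).coeff 1 := by
  rw [coeff_mul_sum, coeff_mul_sum]
  refine Fintype.sum_equiv (Equiv.inv G) _ _ fun h => ?_
  simp [mul_comm]

theorem epsB_central (hM : IsPModular p M) (B : Set (IrrCharacter G))
    (x : MonoidAlgebra (AlgInt ⧸ M) G) : epsB hM B * x = x * epsB hM B :=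
  central_of_coeff_conj (fun t g => by
    simp only [epsB, coeff_ofFn, blockCoeff_isClassFunction B g t]) x

/-- The center of the modular algebra of a block. -/
noncomputable def Zb (hM : IsPModular p M) (B : Set (IrrCharacter G)) :
    Submodule (AlgInt ⧸ M) (MonoidAlgebra (AlgInt ⧸ M) G) where
  carrier := {y | (∀ x, y * x = x * y) ∧ epsB hM B * y = y}
  zero_mem' := ⟨fun x => by simp, mul_zero _⟩
  add_mem' := fun {a b} ha hb =>
    ⟨fun x => by rw [add_mul, mul_add, ha.1, hb.1], by rw [mul_add, ha.2, hb.2]⟩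
  smul_mem' := fun c a ha =>
    ⟨fun x => by rw [smul_mul_assoc, mul_smul_comm, ha.1], by rw [mul_smul_comm, ha.2]⟩

theorem mem_Zb (hM : IsPModular p M) {B : Set (IrrCharacter G)}
    {y : MonoidAlgebra (AlgInt ⧸ M) G} :
    y ∈ Zb hM B ↔ (∀ x, y * x = x * y) ∧ epsB hM B * y = y := Iff.rfl

theorem mul_mem_Zb (hM : IsPModular p M) {B : Set (IrrCharacter G)}
    {y w : MonoidAlgebra (AlgInt ⧸ M) G} (hy : y ∈ Zb hM B) (hw : w ∈ Zb hM B) :
    y * w ∈ Zb hM B :=
  ⟨fun x => by rw [mul_assoc, hw.1, ← mul_assoc, hy.1, mul_assoc], by rw [← mul_assoc, hy.2]⟩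

theorem cf_apply_single (v : IrrCharacter G → ℂ) (g : G) [DecidableEq (IrrCharacter G)] :
    cf v g = ∑ χ : IrrCharacter G, cf (Pi.single χ 1) g * v χ := by
  have h : ∀ χ : IrrCharacter G, cf (Pi.single χ 1) g =
      (Nat.card G : ℂ)⁻¹ * ((χ : G → ℂ) 1 * conj ((χ : G → ℂ) g)) := fun χ => by
    rw [cf, Finset.sum_eq_single χ (fun ψ _ h => by simp [h]) (by simp), Pi.single_eq_same,
      one_mul]
  simp only [h]
  rw [cf, Finset.mul_sum]
  exact Finset.sum_congr rfl fun χ _ => by ring

theorem finrank_Zb (hM : IsPModular p M) {B : Set (IrrCharacter G)} (hB : IsPBlock M B) :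
    letI := kField hM
    Module.finrank (AlgInt ⧸ M) (Zb hM B) = (bset B).card := by
  classical
  letI := kField hM
  set b : G → ℂ := blockCoeff B with hb
  have hbcl : IsClassFunction G b := blockCoeff_isClassFunction B
  set δ : ConjClasses G → G → ℂ := fun C x => if ConjClasses.mk x = C then 1 else 0 with hδ
  have hδcl : ∀ C, IsClassFunction G (δ C) := fun C x t => by
    have e : ConjClasses.mk (t * x * t⁻¹) = ConjClasses.mk x :=
      ConjClasses.mk_eq_mk_iff_isConj.2 (isConj_iff.2 ⟨t, rfl⟩).symm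
    simp only [hδ, e]
  have hδm : ∀ C x, MemLocalRing M (δ C x) := fun C x => by
    simp only [hδ]
    split_ifs
    · exact (loc hM).one_mem
    · exact (loc hM).zero_mem
  have hbm : ∀ x, MemLocalRing M (b x) := memRing_blockCoeff hM hB
  have hcm : ∀ C g, MemLocalRing M (conv b (δ C) g) := fun C g =>
    memRing_sum hM fun x _ => (loc hM).mul_mem (hbm x) (hδm _ _)
  set W : Matrix (ConjClasses G) (ConjClasses G) ℂ :=
    Matrix.of fun C' C => conv b (δ C) (crep C') with hW
  set X : Matrix (IrrCharacter G) (ConjClasses G) ℂ :=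
    Matrix.of fun χ C => omega (χ : G → ℂ) (δ C) with hX
  set Y : Matrix (ConjClasses G) (IrrCharacter G) ℂ :=
    Matrix.of fun C χ => cf (Pi.single χ 1) (crep C) with hY
  have hexp : ∀ {f : G → ℂ}, IsClassFunction G f → ∀ χ : IrrCharacter G,
      ∑ C, f (crep C) * omega (χ : G → ℂ) (δ C) = omega (χ : G → ℂ) f := by
    intro f hf χ
    simp only [omega, Finset.sum_div, Finset.mul_sum]
    rw [Finset.sum_comm]
    refine Finset.sum_congr rfl fun x _ => ?_
    rw [Finset.sum_eq_single (ConjClasses.mk x)]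
    · rw [classFun_eq_of_isConj hf (isConj_crep x)]
      simp only [hδ, if_true, one_mul]
      ring
    · intro C _ hC
      simp only [hδ, if_neg (Ne.symm hC), zero_mul, zero_div, mul_zero]
    · simp
  have hYX : Y * X = 1 := by
    ext C C₀
    simp only [Matrix.mul_apply, hY, hX, Matrix.of_apply]
    rw [← cf_apply_single (fun χ => omega (χ : G → ℂ) (δ C₀)) (crep C), cf_omega (hδcl C₀)]
    simp only [hδ, mk_crep, Matrix.one_apply]
  have hXW : X * W = Matrix.diagonal (ind B) * X := by
    ext χ C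
    rw [Matrix.diagonal_mul]
    simp only [Matrix.mul_apply, hX, hW, Matrix.of_apply]
    rw [Finset.sum_congr rfl fun C' _ => mul_comm _ _,
      hexp (conv_isClassFunction hbcl (hδcl C)) χ, omega_conv hbcl χ, hb, ← cf_ind, omega_cf]
  have hW0 : W = Y * (Matrix.diagonal (ind B) * X) := by
    rw [← hXW, ← Matrix.mul_assoc, hYX, Matrix.one_mul]
  have hW2 : W * W = W := by
    conv_lhs => arg 1; rw [hW0]
    rw [Matrix.mul_assoc, Matrix.mul_assoc, hXW, ← Matrix.mul_assoc (Matrix.diagonal (ind B)),
      Matrix.diagonal_mul_diagonal]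
    rw [show (fun i => ind B i * ind B i) = ind B from ?_, ← hW0]
    funext χ
    by_cases h : χ ∈ B
    · simp [ind_of_mem h]
    · simp [ind_of_notMem h]
  have hWtr : W.trace = ((bset B).card : ℂ) := by
    rw [hW0, Matrix.trace_mul_comm, Matrix.mul_assoc, Matrix.trace]
    simp only [Matrix.diag, Matrix.diagonal_mul]
    have hXY : ∀ χ, (X * Y) χ χ = 1 := fun χ => by
      simp only [Matrix.mul_apply, hX, hY, Matrix.of_apply]
      rw [Finset.sum_congr rfl fun C _ => mul_comm _ _, hexp (cf_isClassFunction _) χ, omega_cf,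
        Pi.single_eq_same]
    simp only [hXY]
    rw [sum_ind_mul, Finset.sum_const, nsmul_eq_mul, mul_one]
  obtain ⟨hW2', hWr⟩ := res_rank hM W (fun C' C => hcm C _) hW2 _ hWtr
  set E : (ConjClasses G → AlgInt ⧸ M) →ₗ[AlgInt ⧸ M] MonoidAlgebra (AlgInt ⧸ M) G :=
    { toFun := fun F => ofFn fun g => F (ConjClasses.mk g)
      map_add' := fun F F' => ext_coeff fun g => by simp [coeff_ofFn]
      map_smul' := fun c F => ext_coeff fun g => by simp [coeff_ofFn] } with hE
  have hEinj : Function.Injective E := fun F F' h => funext fun C => by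
    have := congrArg (fun z => z.coeff (crep C)) h
    simpa [hE, coeff_ofFn, mk_crep] using this
  have hEc : ∀ F, ∀ x, E F * x = x * E F := fun F => central_of_coeff_conj fun t g => by
    simp only [hE, LinearMap.coe_mk, AddHom.coe_mk, coeff_ofFn]
    rw [ConjClasses.mk_eq_mk_iff_isConj.2 (isConj_iff.2 ⟨t, rfl⟩).symm]
  have hmain : ∀ F g, (epsB hM B * E F).coeff g =
      Matrix.toLin' (W.map (res hM)) F (ConjClasses.mk g) := by
    intro F g
    have hc : ∀ x, (epsB hM B * E F) * x = x * (epsB hM B * E F) := fun x => by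
      rw [mul_assoc, hEc, ← mul_assoc, epsB_central, mul_assoc]
    obtain ⟨t, ht⟩ := isConj_iff.1 (isConj_crep g)
    have hcg := coeff_conj_of_central hc t (crep (ConjClasses.mk g))
    rw [ht] at hcg
    rw [hcg]
    rw [coeff_mul_sum, Matrix.toLin'_apply, Matrix.mulVec, dotProduct]
    simp only [hE, LinearMap.coe_mk, AddHom.coe_mk, coeff_ofFn, epsB, Matrix.map_apply, hW,
      Matrix.of_apply, conv]
    simp only [res_sum hM fun x _ => (loc hM).mul_mem (hbm x) (hδm _ _), Finset.sum_mul]
    conv_rhs => rw [Finset.sum_comm]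
    refine Finset.sum_congr rfl fun x _ => ?_
    rw [Finset.sum_eq_single (ConjClasses.mk (x⁻¹ * crep (ConjClasses.mk g)))]
    · rw [res_mul hM (hbm x) (hδm _ _)]
      simp only [hδ, if_true, res_one, mul_one, hb]
    · intro C _ hC
      rw [res_mul hM (hbm x) (hδm _ _)]
      simp only [hδ, if_neg (Ne.symm hC), res_zero, mul_zero, zero_mul]
    · simp
  have hrange : (LinearMap.range (Matrix.toLin' (W.map (res hM)))).map E = Zb hM B := by
    apply le_antisymm
    · rintro _ ⟨_, ⟨F, rfl⟩, rfl⟩
      refine ⟨hEc _, ext_coeff fun g => ?_⟩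
      rw [hmain, Matrix.toLin'_apply, Matrix.toLin'_apply, Matrix.mulVec_mulVec, hW2']
      rfl
    · intro y hy
      have hEy : E (fun C => y.coeff (crep C)) = y := ext_coeff fun g => by
        simp only [hE, LinearMap.coe_mk, AddHom.coe_mk, coeff_ofFn]
        obtain ⟨t, ht⟩ := isConj_iff.1 (isConj_crep g)
        have hcg := coeff_conj_of_central hy.1 t (crep (ConjClasses.mk g))
        rw [ht] at hcg
        exact hcg.symm
      refine ⟨Matrix.toLin' (W.map (res hM)) fun C => y.coeff (crep C), ⟨_, rfl⟩, ?_⟩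
      refine ext_coeff fun g => ?_
      have h2 := hmain (fun C => y.coeff (crep C)) g
      rw [hEy, hy.2] at h2
      show _ = y.coeff g
      rw [h2]
      rfl
  rw [← hrange, ← (Submodule.equivMapOfInjective E hEinj _).finrank_eq, hWr]

/-- A trace form vanishes on the reduction of an element with vanishing traces. -/
theorem trace_form_red_eq_zero (hM : IsPModular p M) {x : RG hM G}
    (hx : ∀ χ : IrrCharacter G, tr hM χ x = 0)
    (L : MonoidAlgebra (AlgInt ⧸ M) G →ₗ[AlgInt ⧸ M] (AlgInt ⧸ M))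
    (hL : ∀ a b, L (a * b) = L (b * a)) : L (rd hM x) = 0 := by
  classical
  have hcls : ∀ h : G, ∑ g ∈ Finset.univ.filter (fun g => ConjClasses.mk g = ConjClasses.mk h),
      toC x g = 0 := by
    intro h
    have h1 : ∑ g, toC x g * (if IsConj h g then
        (Nat.card (Subgroup.centralizer ({h} : Set G)) : ℂ) else 0) = 0 := by
      rw [Finset.sum_congr rfl fun g _ => show _ = ∑ χ : IrrCharacter G,
        conj ((χ : G → ℂ) h) * (toC x g * (χ : G → ℂ) g) by
        have hs := congrArg conj (sum_irr_mul_conj h g)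
        simp only [map_sum, map_mul, Complex.conj_conj, apply_ite conj, map_natCast, map_zero]
          at hs
        rw [← hs, Finset.mul_sum]
        exact Finset.sum_congr rfl fun χ _ => by ring]
      rw [Finset.sum_comm]
      exact Finset.sum_eq_zero fun χ _ => by rw [← Finset.mul_sum, ← tr_eq, hx, mul_zero]
    have hc0 : (Nat.card (Subgroup.centralizer ({h} : Set G)) : ℂ) ≠ 0 :=
      Nat.cast_ne_zero.2 Nat.card_pos.ne'
    refine (mul_eq_zero.1 ?_).resolve_right hc0
    rw [Finset.sum_mul, Finset.sum_filter]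
    refine Eq.trans ?_ h1
    refine Finset.sum_congr rfl fun g _ => ?_
    have hiff : ConjClasses.mk g = ConjClasses.mk h ↔ IsConj h g :=
      ConjClasses.mk_eq_mk_iff_isConj.trans isConj_comm
    by_cases hg : IsConj h g
    · rw [if_pos (hiff.2 hg), if_pos hg]
    · rw [if_neg (mt hiff.1 hg), if_neg hg, mul_zero]
  set hfun : G → AlgInt ⧸ M := fun g => L (single g 1) with hhfun
  have hLsum : ∀ y, L y = ∑ g, y.coeff g * hfun g := by
    intro y
    have hy : y = ∑ g, y.coeff g • (single g 1 : MonoidAlgebra (AlgInt ⧸ M) G) :=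
      ext_coeff fun a => by
        rw [MonoidAlgebra.coeff_sum, Finsupp.finsetSum_apply, Finset.sum_eq_single a] <;>
          simp +contextual
    conv_lhs => rw [hy]
    rw [map_sum]
    exact Finset.sum_congr rfl fun g _ => by rw [map_smul]; rfl
  have hclass : ∀ g h : G, ConjClasses.mk g = ConjClasses.mk h → hfun g = hfun h := by
    intro g h hgh
    obtain ⟨t, rfl⟩ := isConj_iff.1 (ConjClasses.mk_eq_mk_iff_isConj.1 hgh)
    simp only [hhfun]
    rw [show (single (t * g * t⁻¹) 1 : MonoidAlgebra (AlgInt ⧸ M) G) =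
      single (t * g) 1 * single t⁻¹ 1 by rw [MonoidAlgebra.single_mul_single, mul_one], hL,
      MonoidAlgebra.single_mul_single, mul_one, inv_mul_cancel_left]
  rw [hLsum, ← Finset.sum_fiberwise Finset.univ (fun g : G => ConjClasses.mk g)]
  refine Finset.sum_eq_zero fun C _ => ?_
  obtain ⟨h, rfl⟩ := ConjClasses.mk_surjective C
  rw [Finset.sum_congr rfl fun g hg => by rw [hclass g h (Finset.mem_filter.1 hg).2],
    ← Finset.sum_mul]
  have h2 : ∑ g ∈ Finset.univ.filter (fun g => ConjClasses.mk g = ConjClasses.mk h),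
      x.coeff g = (0 : loc hM) := Subtype.ext (by
        rw [AddSubmonoidClass.coe_finsetSum]; exact hcls h)
  simp only [coeff_rd, toC]
  rw [show ∑ g ∈ Finset.univ.filter (fun g => ConjClasses.mk g = ConjClasses.mk h),
    res hM ((x.coeff g : loc hM) : ℂ) = resHom hM (∑ g ∈ Finset.univ.filter
      (fun g => ConjClasses.mk g = ConjClasses.mk h), x.coeff g) from by rw [map_sum]; rfl,
    h2, map_zero, zero_mul]

/-- The ideal of the idempotent `i` contains the block idempotent modulo the radical. -/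
theorem eq_zero_of_mul_idem [Fact p.Prime] (hM : IsPModular p M) {B : Set (IrrCharacter G)}
    (hB : IsPBlock M B) {i : RG hM G} (htr : ∀ χ : IrrCharacter G, tr hM χ i = ind B χ)
    (hbx : ∀ x : RG hM G, x * x = x → ∃ m : ℕ, ∀ χ : IrrCharacter G,
      tr hM χ (toO hM (blockCoeff B) * x) = (m : ℂ) * ind B χ)
    {z : MonoidAlgebra (AlgInt ⧸ M) G} (hz : z ∈ Zb hM B) (hzi : z * rd hM i = 0) : z = 0 := by
  classical
  haveI := hM.2.1
  letI := kField hM
  haveI : IsAlgClosed (AlgInt ⧸ M) := res_isAlgClosed hM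
  haveI := res_charP hM
  set D := locRed hM with hD
  set b := toO hM (blockCoeff B) with hb
  obtain ⟨r, d, π, hd, hπs, m, hm⟩ :=
    exists_pi_quotient (k := AlgInt ⧸ M) (A := MonoidAlgebra (AlgInt ⧸ M) G)
  set φ : RG hM G →+* Π l, Matrix (Fin (d l)) (Fin (d l)) (AlgInt ⧸ M) :=
    π.toRingHom.comp (rd hM) with hφdef
  have hφ : ∀ a, D.r a = 0 → φ (algebraMap (loc hM) (RG hM G) a) = 0 := fun a ha => by
    show π (red D _) = 0
    rw [red_algebraMap D ha, map_zero]
  have hφs : Function.Surjective φ := fun y => by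
    obtain ⟨w, rfl⟩ := hπs y
    exact ⟨lift0 D w, by show π (red D (lift0 D w)) = π w; rw [red_lift0]⟩
  have hint : ∀ a : RG hM G, IsIntegral (loc hM) a := fun a => IsIntegral.of_finite _ a
  have hsand : ∀ u v, z * (u * rd hM i * v) = 0 := fun u v => by
    rw [← mul_assoc, ← mul_assoc, hz.1 u, mul_assoc u, hzi, mul_zero, zero_mul]
  have hfac : ∀ l, ∃ y, z * y = 0 ∧ π y = Pi.single l (π (epsB hM B) l) := by
    intro l
    by_cases h0 : π (epsB hM B) l = 0
    · exact ⟨0, mul_zero _, by rw [h0, Pi.single_zero, map_zero]⟩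
    have hcen : ∀ N : Matrix (Fin (d l)) (Fin (d l)) (AlgInt ⧸ M),
        N * π (epsB hM B) l = π (epsB hM B) l * N := by
      intro N
      obtain ⟨w, hw⟩ := hπs (Pi.single l N)
      have h1 := congrArg (fun f => π f l) (epsB_central hM B w)
      simp only [map_mul, Pi.mul_apply, hw, Pi.single_eq_same] at h1
      exact h1.symm
    obtain ⟨c, hc⟩ := Matrix.mem_range_scalar_of_commute_single
      (fun a b _ => hcen (Matrix.single a b 1))
    have hE1 : π (epsB hM B) l = 1 := by
      have h2 := congrArg (fun f => π f l) (epsB_idem hM hB)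
      simp only [map_mul, Pi.mul_apply, ← hc] at h2
      rw [← map_mul] at h2
      have h3 := Matrix.scalar_inj.1 h2
      have hc0 : c ≠ 0 := fun h => h0 (by rw [← hc, h, map_zero])
      rw [← hc, mul_left_eq_self₀.1 h3 |>.resolve_right hc0, map_one]
    obtain ⟨x, hx⟩ := hφs (unitAt (AlgInt ⧸ M) l)
    obtain ⟨e, w, hee, -, -, -, -, -, -, -, -, hid, -⟩ :=
      lift_idem D φ hφ (hint x) (one_mul (1 : RG hM G)) (one_mul x) (mul_one x)
    have hφe : φ e = unitAt (AlgInt ⧸ M) l := (hid (by
      rw [hx, unitAt, ← Pi.single_mul, Matrix.single_mul_single_same, mul_one])).trans hx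
    obtain ⟨n, hn⟩ := hbx e hee
    set L : MonoidAlgebra (AlgInt ⧸ M) G →ₗ[AlgInt ⧸ M] (AlgInt ⧸ M) :=
      (Matrix.traceLinearMap (Fin (d l)) (AlgInt ⧸ M) (AlgInt ⧸ M)).comp
        ((LinearMap.proj l).comp π.toLinearMap) with hLdef
    have hLcomm : ∀ a b, L (a * b) = L (b * a) := fun a b => by
      show (π (a * b) l).trace = (π (b * a) l).trace
      rw [map_mul, map_mul, Pi.mul_apply, Pi.mul_apply, Matrix.trace_mul_comm]
    have h3 := trace_form_red_eq_zero hM (x := b * e - n • i) (fun χ => by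
      rw [tr, map_sub, map_nsmul]
      push_cast
      show tr hM χ (b * e) - n • tr hM χ i = 0
      rw [hn χ, htr χ, nsmul_eq_mul, sub_self]) L hLcomm
    rw [map_sub, map_sub, map_nsmul, map_nsmul, sub_eq_zero] at h3
    have h4 : L (rd hM (b * e)) = 1 := by
      show (π (rd hM (b * e)) l).trace = 1
      rw [map_mul, hb, rd_blockE hM hB, map_mul, Pi.mul_apply, hE1, one_mul,
        show π (rd hM e) = φ e from rfl, hφe, unitAt, Pi.single_eq_same,
        Matrix.trace_single_eq_same]
    rw [h4] at h3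
    have hne : π (rd hM i) l ≠ 0 := by
      intro h
      rw [show L (rd hM i) = (π (rd hM i) l).trace from rfl, h, Matrix.trace_zero,
        smul_zero] at h3
      exact one_ne_zero h3
    obtain ⟨a, s, has⟩ : ∃ a s, π (rd hM i) l a s ≠ 0 := by
      by_contra hno
      push Not at hno
      exact hne (Matrix.ext fun a s => hno a s)
    choose u hu using fun q : Fin (d l) =>
      hπs (Pi.single l (Matrix.single q a ((π (rd hM i) l a s)⁻¹)))
    choose v hv using fun q : Fin (d l) =>
      hπs (Pi.single l (Matrix.single s q (1 : AlgInt ⧸ M)))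
    refine ⟨∑ q, u q * rd hM i * v q, by
      rw [Finset.mul_sum]; exact Finset.sum_eq_zero fun q _ => hsand _ _, ?_⟩
    rw [hE1, map_sum]
    funext l'
    rw [Finset.sum_apply]
    simp only [map_mul, Pi.mul_apply, hu, hv]
    rcases eq_or_ne l' l with rfl | hl'
    · simp only [Pi.single_eq_same, Matrix.single_mul_mul_single, mul_one, inv_mul_cancel₀ has]
      exact Matrix.sum_single_one
    · simp [Pi.single_eq_of_ne hl']
  choose y hy hπy using hfac
  set R := epsB hM B - ∑ l, y l with hR
  have hzR : z * R = z := by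
    rw [hR, mul_sub, Finset.mul_sum, Finset.sum_eq_zero fun l _ => hy l, sub_zero,
      hz.1, hz.2]
  have hker : R ∈ LinearMap.ker π.toLinearMap := by
    show π R = 0
    rw [hR, map_sub, map_sum, Finset.sum_congr rfl fun l _ => hπy l,
      Finset.univ_sum_single, sub_self]
  have hzpow : ∀ n : ℕ, z * R ^ n = z := by
    intro n
    induction n with
    | zero => rw [pow_zero, mul_one]
    | succ n ih => rw [pow_succ', ← mul_assoc, hzR, ih]
  have h1 := Submodule.pow_mem_pow _ hker m
  rw [hm, Submodule.mem_bot] at h1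
  rw [← hzpow m, h1, mul_zero]

/-- The corner of `i` consists of the products of `i` with central elements of the block. -/
theorem corner_central [Fact p.Prime] (hM : IsPModular p M) {B : Set (IrrCharacter G)}
    (hB : IsPBlock M B) {i : RG hM G} (hi : i * i = i) (hbi : toO hM (blockCoeff B) * i = i)
    (htr : ∀ χ : IrrCharacter G, tr hM χ i = ind B χ)
    (hbx : ∀ x : RG hM G, x * x = x → ∃ m : ℕ, ∀ χ : IrrCharacter G,
      tr hM χ (toO hM (blockCoeff B) * x) = (m : ℂ) * ind B χ)
    (a : MonoidAlgebra (AlgInt ⧸ M) G) :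
    ∃ w ∈ Zb hM B, rd hM i * a * rd hM i = w * rd hM i := by
  classical
  haveI := hM.2.1
  letI := kField hM
  haveI : FiniteDimensional (AlgInt ⧸ M) (MonoidAlgebra (AlgInt ⧸ M) G) :=
    Star.finite_monoidAlgebra
  set e := rd hM i with he
  have hee : e * e = e := by rw [he, ← map_mul, hi]
  set ψ : MonoidAlgebra (AlgInt ⧸ M) G →ₗ[AlgInt ⧸ M] MonoidAlgebra (AlgInt ⧸ M) G :=
    (LinearMap.mulRight (AlgInt ⧸ M) e).comp (LinearMap.mulLeft (AlgInt ⧸ M) e) with hψ
  have hψa : ∀ x, ψ x = e * x * e := fun x => rfl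
  set V := LinearMap.range ψ with hV
  set s := Module.finrank (AlgInt ⧸ M) V with hs
  let v := Module.finBasis (AlgInt ⧸ M) V
  choose a' ha' using fun j => (v j).2
  set u : Fin s → RG hM G := fun j => i * lift0 (locRed hM) (a' j) * i with hu
  have hrdu : ∀ j, rd hM (u j) = (v j : MonoidAlgebra (AlgInt ⧸ M) G) := fun j => by
    rw [hu, map_mul, map_mul, ← ha' j, hψa]
    congr 2
    exact red_lift0 (locRed hM) (a' j)
  have hvli : LinearIndependent (AlgInt ⧸ M)
      fun j : Fin s => (v j : MonoidAlgebra (AlgInt ⧸ M) G) :=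
    v.linearIndependent.map' V.subtype (Submodule.ker_subtype V)
  have hli : LinearIndependent ℂ fun j => toC (u j) := by
    refine lift_indep hM (fun j => toC (u j)) (fun j x => ((u j).coeff x).2) ?_
    rw [Fintype.linearIndependent_iff]
    intro c hc
    refine Fintype.linearIndependent_iff.1 hvli c (ext_coeff fun x => ?_)
    have h := congrFun hc x
    simp only [Finset.sum_apply, Pi.smul_apply, smul_eq_mul, Pi.zero_apply] at h
    rw [MonoidAlgebra.coeff_sum, Finsupp.finsetSum_apply, MonoidAlgebra.coeff_zero,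
      Finsupp.zero_apply]
    rw [← h]
    refine Finset.sum_congr rfl fun j _ => ?_
    rw [MonoidAlgebra.coeff_smul, Finsupp.smul_apply, smul_eq_mul, ← hrdu, coeff_rd]
  have h01 : ∀ χ : IrrCharacter G, tr hM χ i = 0 ∨ tr hM χ i = 1 := fun χ => by
    rw [htr]
    by_cases h : χ ∈ B
    · exact Or.inr (ind_of_mem h)
    · exact Or.inl (ind_of_notMem h)
  have hoff : ∀ j, ∀ χ : IrrCharacter G, χ ∉ B → tr hM χ (u j) = 0 := fun j χ hχ => by
    have h := tr_corner_mul hi (h01 χ) (lift0 (locRed hM) (a' j)) 1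
    rw [mul_one, hi] at h
    rw [htr χ, ind_of_notMem hχ, mul_zero, mul_assoc _ i i, hi] at h
    exact h
  set τ : Fin s → B → ℂ := fun j χ => tr hM (χ : IrrCharacter G) (u j) with hτ
  haveI : Fintype B := Fintype.ofFinite B
  have hτli : LinearIndependent ℂ τ := by
    rw [Fintype.linearIndependent_iff]
    intro c hc
    refine Fintype.linearIndependent_iff.1 hli c (funext fun g => ?_)
    rw [Finset.sum_apply, Pi.zero_apply]
    simp only [Pi.smul_apply, smul_eq_mul]
    refine corner_comb_eq_zero hi h01 (fun j => lift0 (locRed hM) (a' j)) c (fun χ => ?_) g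
    by_cases hχ : χ ∈ B
    · have h := congrFun hc ⟨χ, hχ⟩
      simpa [hτ, hu] using h
    · exact Finset.sum_eq_zero fun j _ => by
        rw [show tr hM χ (i * lift0 (locRed hM) (a' j) * i) = 0 from hoff j χ hχ, mul_zero]
  have hsle : s ≤ (bset B).card := by
    have h := hτli.fintype_card_le_finrank
    rw [Module.finrank_fintype_fun_eq_card, Fintype.card_fin] at h
    refine h.trans (le_of_eq ?_)
    rw [← Nat.card_eq_fintype_card, Nat.card_eq_card_toFinset]
    congr 1
    ext χ
    simp [mem_bset]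
  set T : Zb hM B →ₗ[AlgInt ⧸ M] V :=
    LinearMap.codRestrict V ((LinearMap.mulRight (AlgInt ⧸ M) e).comp (Zb hM B).subtype)
      (fun w => ⟨w, by
        show e * (w : MonoidAlgebra (AlgInt ⧸ M) G) * e = _
        rw [← w.2.1, mul_assoc, hee]
        rfl⟩) with hT
  have hTinj : Function.Injective T := by
    rw [← LinearMap.ker_eq_bot, Submodule.eq_bot_iff]
    intro w hw
    exact Subtype.ext (eq_zero_of_mul_idem hM hB htr hbx w.2 (congrArg Subtype.val hw))
  have hle := LinearMap.finrank_le_finrank_of_injective hTinj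
  rw [finrank_Zb hM hB] at hle
  have htop : LinearMap.range T = ⊤ := Submodule.eq_top_of_finrank_eq (by
    rw [LinearMap.finrank_range_of_inj hTinj, finrank_Zb hM hB]
    exact le_antisymm hle hsle)
  obtain ⟨w, hw⟩ := LinearMap.range_eq_top.1 htop ⟨ψ a, ⟨a, rfl⟩⟩
  exact ⟨w, w.2, (congrArg Subtype.val hw).symm⟩

/-- A central element of the block vanishing on the centralizer of a defect group is zero. -/
theorem eq_zero_of_vanish [Fact p.Prime] (hM : IsPModular p M) {B : Set (IrrCharacter G)}
    (hB : IsPBlock M B) {g : ℕ} (hg0 : g ≠ 0)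
    (hdeg : ∀ χ ∈ B, charDegree (χ : G → ℂ) = g) {D : Subgroup G}
    (hD : IsDefectGroup p M B D) {y : MonoidAlgebra (AlgInt ⧸ M) G} (hy : y ∈ Zb hM B)
    (hvan : ∀ x ∈ Subgroup.centralizer (D : Set G), y.coeff x = 0) : y = 0 := by
  classical
  haveI := hM.2.1
  letI := kField hM
  haveI : CharP (AlgInt ⧸ M) p := res_charP hM
  obtain ⟨i, hi, hbi, htr, hbx⟩ := exists_block_idem hM hB hg0 hdeg
  have hDp := defectGroup_isPGroup hD
  set e := rd hM i with he
  have hee : e * e = e := by rw [he, ← map_mul, hi]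
  have hfix : ∀ {Q : Subgroup G} {w : MonoidAlgebra (AlgInt ⧸ M) G},
      (∀ x, w * x = x * w) → w ∈ fixA (AlgInt ⧸ M) (Q : Set G) := fun hw =>
    mem_fixA.2 fun s _ => (cj_eq_iff _ _).2 (hw _).symm
  -- the linear form vanishes
  have hlam : ∀ w ∈ Zb hM B, (∀ x ∈ Subgroup.centralizer (D : Set G), w.coeff x = 0) →
      (w * e).coeff 1 = 0 := by
    intro w hw hwv
    rw [coeff_mul_sum, ← Finset.sum_fiberwise Finset.univ (fun x : G => ConjClasses.mk x)]
    refine Finset.sum_eq_zero fun C _ => ?_
    have hwC : ∀ x : G, ConjClasses.mk x = C → w.coeff x = w.coeff (crep C) := fun x hx => by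
      obtain ⟨t, ht⟩ := isConj_iff.1 (hx ▸ isConj_crep x)
      have hcg := coeff_conj_of_central hw.1 t (crep C)
      rw [ht] at hcg
      exact hcg
    rw [Finset.sum_congr rfl fun x hx => by rw [hwC x (Finset.mem_filter.1 hx).2],
      ← Finset.mul_sum]
    by_cases h0 : w.coeff (crep C) = 0
    · rw [h0, zero_mul]
    refine mul_eq_zero_of_right _ ?_
    set g₀ := crep C with hg₀
    -- the Sylow subgroup of the centralizer is smaller than the defect group
    obtain ⟨S⟩ : Nonempty (Sylow p (Subgroup.centralizer ({g₀} : Set G))) := inferInstance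
    set Q := (S : Subgroup (Subgroup.centralizer ({g₀} : Set G))).map
      (Subgroup.centralizer ({g₀} : Set G)).subtype with hQ
    have hQp : IsPGroup p Q := S.isPGroup'.map _
    have hQc : Q ≤ Subgroup.centralizer ({g₀} : Set G) := Subgroup.map_subtype_le _
    have hgQ : g₀ ∈ Subgroup.centralizer (Q : Set G) := fun q hq =>
      (Subgroup.mem_centralizer_singleton_iff.1 (hQc hq))
    obtain ⟨l, hl, hlQ⟩ : ∃ l, ¬ MemLocalIdeal M (blockCoeff B l) ∧
        l ∈ Subgroup.centralizer (Q : Set G) := by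
      by_contra hno
      push Not at hno
      refine h0 ?_
      have hb0 : br Q (epsB hM B) = 0 := ext_coeff fun x => by
        by_cases hx : x ∈ Subgroup.centralizer (Q : Set G)
        · rw [coeff_br_mem Q _ hx, epsB, coeff_ofFn, MonoidAlgebra.coeff_zero,
            Finsupp.zero_apply, res_eq_zero_iff hM (memRing_blockCoeff hM hB x)]
          by_contra hx'
          exact hno x hx' hx
        · rw [coeff_br_notMem Q _ hx]; rfl
      rw [← coeff_br_mem Q w hgQ, ← hw.2,
        br_mul hQp (hfix (epsB_central hM B)) (hfix hw.1), hb0, zero_mul]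
      rfl
    obtain ⟨D', hD', hQD'⟩ := exists_defectGroup_ge hM hB hl hQp
      (fun q hq => Subgroup.mem_centralizer_singleton_iff.2 (hlQ q hq))
    have hD'c : Nat.card D' = p ^ blockDefect p B := card_defectGroup hM hB hD'
    have hlt : (Nat.card (Subgroup.centralizer ({g₀} : Set G))).factorization p
        < blockDefect p B := by
      have hQcard : Nat.card Q =
          p ^ (Nat.card (Subgroup.centralizer ({g₀} : Set G))).factorization p := by
        rw [hQ, Subgroup.card_map_of_injective (Subgroup.subtype_injective _),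
          S.card_eq_multiplicity]
      rcases Nat.lt_or_ge (Nat.card (Subgroup.centralizer ({g₀} : Set G))|>.factorization p)
        (blockDefect p B) with h | h
      · exact h
      exfalso
      have hQD : Q = D' := Subgroup.eq_of_le_of_card_ge hQD' (by
        rw [hD'c, hQcard]; exact Nat.pow_le_pow_right hM.1.pos h)
      obtain ⟨x, hx⟩ := defectGroup_conjugate hM hB hD hD'
      refine h0 ?_
      rw [← coeff_conj_of_central hw.1 x⁻¹ g₀]
      refine hwv _ fun q hq => ?_
      have hq' : x * q * x⁻¹ ∈ Q := by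
        rw [hQD, ← hx]
        exact ⟨q, hq, rfl⟩
      have h1 : (x * q * x⁻¹) * g₀ = g₀ * (x * q * x⁻¹) := hgQ _ hq'
      calc q * (x⁻¹ * g₀ * x⁻¹⁻¹) = x⁻¹ * ((x * q * x⁻¹) * g₀) * x := by group
        _ = x⁻¹ * (g₀ * (x * q * x⁻¹)) * x := by rw [h1]
        _ = x⁻¹ * g₀ * x⁻¹⁻¹ * q := by group
    -- the class sum
    simp only [mul_one, he, coeff_rd]
    set θ : ℂ := ∑ χ ∈ bset B, (χ : G → ℂ) g₀ with hθ
    set cc : ℕ := Nat.card (Subgroup.centralizer ({g₀} : Set G)) with hcc
    have hcc0 : (cc : ℂ) ≠ 0 := Nat.cast_ne_zero.2 Nat.card_pos.ne'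
    set S' : ℂ := ∑ x ∈ Finset.univ.filter (fun x => ConjClasses.mk x = C), toC i x⁻¹ with hS'
    have hθ' : θ = S' * (cc : ℂ) := by
      have h1 : θ = ∑ χ : IrrCharacter G, tr hM χ i * (χ : G → ℂ) g₀ := by
        simp only [htr]
        rw [sum_ind_mul]
      rw [h1]
      simp only [tr_eq, Finset.sum_mul]
      rw [Finset.sum_comm, hS', Finset.sum_filter, Finset.sum_mul]
      refine Fintype.sum_equiv (Equiv.inv G) _ _ fun x => ?_
      simp only [Equiv.inv_apply, inv_inv]
      rw [Finset.sum_congr rfl fun (χ : IrrCharacter G) _ => show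
        toC i x * (χ : G → ℂ) x * (χ : G → ℂ) g₀ =
        toC i x * ((χ : G → ℂ) g₀ * conj ((χ : G → ℂ) x⁻¹)) by rw [irr_conjInv, inv_inv]; ring,
        ← Finset.mul_sum, sum_irr_mul_conj g₀ x⁻¹]
      have hiff : IsConj g₀ x⁻¹ ↔ ConjClasses.mk x⁻¹ = C := by
        rw [← mk_crep C, ConjClasses.mk_eq_mk_iff_isConj, isConj_comm]
      by_cases hx : IsConj g₀ x⁻¹
      · rw [if_pos hx, if_pos (hiff.1 hx)]
      · rw [if_neg hx, if_neg (mt hiff.2 hx), mul_zero, zero_mul]
    set n := blockDefect p B with hn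
    set a := (Nat.card G).factorization p with ha
    have hgp : g.factorization p + n = a := by
      obtain ⟨χ, hχ, hχ0⟩ := exists_height_zero hM hB
      have h1 : g.factorization p = minDv p B := by
        rw [← hχ0]; simp only [dv, hdeg χ hχ]
      rw [h1, hn, blockDefect_eq, ← ha]
      have := minDv_le_card hM hB
      omega
    have hpn0 : p ^ n ≠ 0 := pow_ne_zero _ hM.1.ne_zero
    have hfac : (g * p ^ n).factorization p = a := by
      rw [Nat.factorization_mul hg0 hpn0, Finsupp.add_apply,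
        Nat.Prime.factorization_pow hM.1, Finsupp.single_eq_same, hgp]
    have hθloc : MemLocalRing M (θ / (p : ℂ) ^ n) := by
      have hgC : (g : ℂ) ≠ 0 := Nat.cast_ne_zero.2 hg0
      have hG : (Nat.card G : ℂ) ≠ 0 := Nat.cast_ne_zero.2 Nat.card_pos.ne'
      have e1 : θ / (p : ℂ) ^ n =
          (Nat.card G : ℂ) / ((g * p ^ n : ℕ) : ℂ) * blockCoeff B g₀⁻¹ := by
        have hb' : blockCoeff B g₀⁻¹ = (Nat.card G : ℂ)⁻¹ * ((g : ℂ) * θ) := by
          rw [blockCoeff, finsum_mem_bset, hθ, Finset.mul_sum (a := (g : ℂ))]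
          congr 1
          refine Finset.sum_congr rfl fun χ hχ => ?_
          rw [irr_conjInv, inv_inv, ← irr_charDegree_cast χ, hdeg χ (mem_bset.1 hχ)]
        rw [hb']
        push_cast
        field_simp
      rw [e1]
      exact (loc hM).mul_mem (natDiv_mem_loc hM Nat.card_pos.ne' (mul_ne_zero hg0 hpn0) hfac.le).1
        (memRing_blockCoeff hM hB _)
    have hratio := natDiv_mem_loc hM hpn0 (Nat.card_pos.ne' : cc ≠ 0) (by
      rw [Nat.Prime.factorization_pow hM.1, Finsupp.single_eq_same]; exact hlt.le)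
    have hI : MemLocalIdeal M ((p ^ n : ℕ) / (cc : ℂ) : ℂ) := hratio.2.1 (by
      rw [Nat.Prime.factorization_pow hM.1, Finsupp.single_eq_same]; exact hlt)
    have hS : S' = θ / (p : ℂ) ^ n * (((p ^ n : ℕ) : ℂ) / (cc : ℂ)) := by
      rw [hθ']
      have : (p : ℂ) ^ n ≠ 0 := pow_ne_zero _ (Nat.cast_ne_zero.2 hM.1.ne_zero)
      push_cast
      field_simp
    rw [← res_sum hM (f := fun x => toC i x⁻¹) fun x _ => (i.coeff x⁻¹).2, ← hS', hS,
      res_mul hM hθloc hratio.1, (res_eq_zero_iff hM hratio.1).2 hI, mul_zero]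
  refine eq_zero_of_mul_idem hM hB htr hbx hy (ext_coeff fun x => ?_)
  set a : MonoidAlgebra (AlgInt ⧸ M) G := single x⁻¹ 1 with ha
  obtain ⟨w, hw, hcw⟩ := corner_central hM hB hi hbi htr hbx a
  have e1 : (y * e * a).coeff 1 = (y * e).coeff x := by
    rw [ha, MonoidAlgebra.coeff_mul_single_apply, inv_inv, one_mul, mul_one]
  have e2 : (y * e * a).coeff 1 = (y * w * e).coeff 1 := by
    calc (y * e * a).coeff 1 = ((y * e) * (e * a)).coeff 1 := by
          rw [show (y * e) * (e * a) = y * (e * e) * a by simp only [mul_assoc], hee]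
      _ = ((e * a) * (y * e)).coeff 1 := coeff_mul_comm_one _ _
      _ = (y * w * e).coeff 1 := by
          rw [show (e * a) * (y * e) = (e * a * y) * e by simp only [mul_assoc], ← hy.1,
            mul_assoc y, hcw, mul_assoc]
  show (y * e).coeff x = _
  rw [← e1, e2, MonoidAlgebra.coeff_zero, Finsupp.zero_apply]
  refine hlam _ (mul_mem_Zb hM hy hw) fun c hc => ?_
  rw [← coeff_br_mem D _ hc, br_mul hDp (hfix hy.1) (hfix hw.1)]
  have hy0 : br D y = 0 := ext_coeff fun c' => by
    by_cases hc' : c' ∈ Subgroup.centralizer (D : Set G)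
    · rw [coeff_br_mem D _ hc', hvan c' hc']; rfl
    · rw [coeff_br_notMem D _ hc']; rfl
  rw [hy0, zero_mul]
  rfl

end CfsgLib.Blocks.EqualDegree
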