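import Cfsg.Agent.Lib.BlockDegreeSquares.Main
import Cfsg.Agent.Lib.Blocks.AbFree.Idem

/-!
# Blocks with equal degrees: the idempotent of the projective indecomposable character
-/

namespace CfsgLib.Blocks.EqualDegree

open Cfsg CfsgLib.CharTheory CfsgLib.Blocks CfsgLib.Blocks.Star CfsgLib.BlockDegreeSquares
open MonoidAlgebra (single)
open scoped ComplexConjugate

set_option linter.unusedVariables false
set_option linter.unusedSectionVars false
set_option linter.unusedSimpArgs false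
set_option linter.style.haveILetI false

universe u

variable {p : ℕ} {M : Ideal AlgInt} {G : Type u} [Group G] [Fintype G]

theorem tr_eq_tv (hM : IsPModular p M) (χ : IrrCharacter G) (x : RG hM G) :
    tr hM χ x = AbFree.tv x (χ : G → ℂ) := tr_eq χ x

/-- The scalar products on the regular elements against the character of an idempotent. -/
theorem sum_regS_tr (hM : IsPModular p M) {B : Set (IrrCharacter G)} (hB : IsPBlock M B)
    {χ : IrrCharacter G} (hχ : χ ∈ B) {x : RG hM G} (hx : x * x = x) :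
    ∑ ψ ∈ bset B, regS p (χ : G → ℂ) (ψ : G → ℂ) * tr hM ψ x =
      (Nat.card G : ℂ) * tr hM χ x := by
  classical
  simp only [tr_eq_tv]
  rw [← AbFree.tv_sum, AbFree.tv_regular hx (F := fun g => ∑ ψ ∈ bset B,
      regS p (χ : G → ℂ) (ψ : G → ℂ) * (ψ : G → ℂ) g) (fun a b => ?_),
    AbFree.tv_regular hx (irr_isClassFun χ), Finset.mul_sum]
  · refine Finset.sum_congr rfl fun g hg => ?_
    rw [sum_regS_mul hM hB χ g, if_neg (Finset.mem_filter.1 hg).2, ind_of_mem hχ]
    ring
  · exact Finset.sum_congr rfl fun ψ _ => by rw [irr_isClassFun ψ a b]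

/-- An idempotent with trace one on every member of a block and zero on all other characters. -/
theorem exists_block_idem [Fact p.Prime] (hM : IsPModular p M) {B : Set (IrrCharacter G)}
    (hB : IsPBlock M B) {g : ℕ} (hg0 : g ≠ 0)
    (hdeg : ∀ χ ∈ B, charDegree (χ : G → ℂ) = g) :
    ∃ i : RG hM G, i * i = i ∧ toO hM (blockCoeff B) * i = i ∧
      (∀ χ : IrrCharacter G, tr hM χ i = ind B χ) ∧
      ∀ x : RG hM G, x * x = x → ∃ m : ℕ, ∀ χ : IrrCharacter G,
        tr hM χ (toO hM (blockCoeff B) * x) = (m : ℂ) * ind B χ := by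
  classical
  obtain ⟨r, e, hee, hgen, hind, -⟩ := exists_tops hM G
  choose t ht using fun (l : Fin r) (χ : IrrCharacter G) => tr_nat (hM := hM) χ (hee l)
  have huniq : ∀ c c' : Fin r → ℤ,
      (∀ χ : IrrCharacter G, ∑ l, (c l : ℂ) * tr hM χ (e l) = ∑ l, (c' l : ℂ) * tr hM χ (e l)) →
      c = c' := by
    intro c c' h
    refine sub_eq_zero.1 (hind _ fun χ => ?_)
    simp only [Pi.sub_apply, Int.cast_sub, sub_mul, Finset.sum_sub_distrib, h χ, sub_self]
  set b := toO hM (blockCoeff B) with hb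
  have hbb : b * b = b := blockE_idem hM hB
  have hbc : ∀ x, b * x = x * b := blockE_comm hM hB
  have hb1 : ∀ χ : IrrCharacter G, tr hM χ b = ind B χ * (χ : G → ℂ) 1 := fun χ => by
    rw [← mul_one b, hb, tr_blockE_mul hM hB, MonoidAlgebra.one_def, tr, tau_single, one_mul]
    rfl
  obtain ⟨Nb, hNb⟩ := hgen b hbb
  have hg1 : ∀ χ ∈ B, (χ : G → ℂ) 1 = (g : ℂ) := fun χ hχ => by
    rw [← irr_charDegree_cast χ, hdeg χ hχ]
  -- the sum of the block
  set θ : G → ℂ := ∑ φ ∈ bset B, ((1 : ℤ) : ℂ) • (φ : G → ℂ) with hθ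
  have hθg : IsGeneralizedCharacter G θ := isGenChar_sum _ _ fun φ _ =>
    isGenChar_intSmul 1 (isGenChar_of_char (isCharacter_of_irr φ.2))
  have hθvan : ∀ x, p ∣ orderOf x → θ x = 0 := fun x hx => by
    have h := weak_orth hM hB (x := 1) (by simpa using hM.1.not_dvd_one) hx
    have h1 : (g : ℂ) * θ x = 0 := by
      rw [← h, hθ, Finset.sum_apply, Finset.mul_sum]
      refine Finset.sum_congr rfl fun φ hφ => ?_
      rw [Pi.smul_apply, smul_eq_mul, hg1 φ (mem_bset.1 hφ)]
      push_cast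
      ring
    exact (mul_eq_zero.1 h1).resolve_left (Nat.cast_ne_zero.2 hg0)
  obtain ⟨c, hc⟩ := good_of_vanish hgen hθg hθvan
  have hcχ : ∀ χ : IrrCharacter G, ∑ l, (c l : ℂ) * tr hM χ (e l) = ind B χ := fun χ => by
    rw [← hc, hθ, classInner_comb B (fun _ => ((1 : ℤ) : ℂ)) χ, Int.cast_one, mul_one]
  have hgc : (fun l => (g : ℤ) * c l) = fun l => (Nb l : ℤ) := huniq _ _ fun χ => by
    have h := (hb1 χ).symm.trans (hNb χ)
    push_cast
    rw [← h]
    simp only [mul_assoc, ← Finset.mul_sum, hcχ]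
    by_cases hχ : χ ∈ B
    · rw [ind_of_mem hχ, one_mul, mul_one, hg1 χ hχ]
    · simp [ind_of_notMem hχ]
  have hcnn : ∀ l, 0 ≤ c l := fun l => by
    have h1 : (g : ℤ) * c l = Nb l := congrFun hgc l
    have h2 : (0 : ℤ) < g := by exact_mod_cast Nat.pos_of_ne_zero hg0
    nlinarith
  have hsum : ∀ χ : IrrCharacter G,
      ∑ l, c l * (t l χ : ℤ) = if χ ∈ B then 1 else 0 := fun χ => by
    have h := hcχ χ
    simp only [ht] at h
    have h' : ((∑ l, c l * (t l χ : ℤ) : ℤ) : ℂ) = ((if χ ∈ B then 1 else 0 : ℤ) : ℂ) := by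
      push_cast
      rw [h]
      split_ifs with hχ
      · exact ind_of_mem hχ
      · exact ind_of_notMem hχ
    exact_mod_cast h'
  have hnn : ∀ χ : IrrCharacter G, ∀ l, 0 ≤ c l * (t l χ : ℤ) := fun χ l =>
    mul_nonneg (hcnn l) (Int.natCast_nonneg _)
  -- the idempotents below the block use the relevant types only
  have hspan : ∀ l, ∃ N : Fin r → ℕ, (∀ l', c l' = 0 → N l' = 0) ∧
      ∀ ψ ∈ B, (t l ψ : ℤ) = ∑ l', (N l' : ℤ) * t l' ψ := by
    intro l
    have hbe : (b * e l) * (b * e l) = b * e l := by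
      rw [mul_assoc, ← mul_assoc (e l), ← hbc, mul_assoc, hee, ← mul_assoc, hbb]
    obtain ⟨N, hN⟩ := hgen _ hbe
    obtain ⟨N', hN'⟩ := hgen (b - b * e l) (by
      have h1 : b * (b * e l) = b * e l := by rw [← mul_assoc, hbb]
      have h2 : b * e l * b = b * e l := by rw [← hbc, h1]
      rw [sub_mul, mul_sub, mul_sub, hbb, h1, h2, hbe]; abel)
    have hs : ((fun l' => (N l' : ℤ) + N' l') : Fin r → ℤ) = fun l' => (Nb l' : ℤ) :=
      huniq _ _ fun χ => by
        have hsplit : tr hM χ b = tr hM χ (b * e l) + tr hM χ (b - b * e l) := by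
          rw [← tr_add, add_sub_cancel]
        rw [hN, hN', ← Finset.sum_add_distrib, hNb] at hsplit
        push_cast
        rw [hsplit]
        exact Finset.sum_congr rfl fun l' _ => by ring
    refine ⟨N, fun l' h => ?_, fun ψ hψ => ?_⟩
    · have h1 := congrFun hs l'
      have h2 : (g : ℤ) * c l' = Nb l' := congrFun hgc l'
      rw [h, mul_zero] at h2
      omega
    · have h1 := hN ψ
      rw [hb, tr_blockE_mul hM hB, ind_of_mem hψ, one_mul] at h1
      simp only [ht] at h1
      exact_mod_cast h1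
  -- one type
  obtain ⟨χ₀, hχ₀, h0⟩ := exists_height_zero hM hB
  obtain ⟨l₀, hl₀⟩ : ∃ l, c l * (t l χ₀ : ℤ) ≠ 0 := by
    by_contra hno
    push Not at hno
    have h := hsum χ₀
    rw [if_pos hχ₀, Finset.sum_eq_zero fun l _ => hno l] at h
    exact zero_ne_one h
  have hle : ∀ χ ∈ B, ∀ l, c l * (t l χ : ℤ) ≤ 1 := fun χ hχ l => by
    have h := Finset.single_le_sum (fun l _ => hnn χ l) (Finset.mem_univ l)
    rwa [hsum χ, if_pos hχ] at h
  have hone : ∀ χ ∈ B, ∀ l l', c l * (t l χ : ℤ) ≠ 0 → l' ≠ l → c l' * (t l' χ : ℤ) = 0 := by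
    intro χ hχ l l' hl hne
    have h := Finset.sum_le_sum_of_subset_of_nonneg (s := ({l, l'} : Finset (Fin r)))
      (Finset.subset_univ _) fun i _ _ => hnn χ i
    rw [hsum χ, if_pos hχ, Finset.sum_pair hne.symm] at h
    have h1 := hnn χ l
    have h2 := hnn χ l'
    omega
  have hval : ∀ χ ∈ B, t l₀ χ ≠ 0 → t l₀ χ = 1 := by
    intro χ hχ h
    have h1 := hle χ hχ l₀
    have h2 : 1 ≤ c l₀ := by
      have := hcnn l₀
      rcases eq_or_ne (c l₀) 0 with h' | h'
      · exact absurd (by rw [h', zero_mul]) hl₀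
      · omega
    have h3 : (1 : ℤ) ≤ t l₀ χ := by exact_mod_cast Nat.one_le_iff_ne_zero.2 h
    have : (t l₀ χ : ℤ) ≤ 1 := by nlinarith
    omega
  have hc0 : c l₀ ≠ 0 := fun h => hl₀ (by rw [h, zero_mul])
  have hall : ∀ χ ∈ B, t l₀ χ = 1 := by
    intro χ₁ hχ₁
    refine hval χ₁ hχ₁ fun hzero => ?_
    choose q hq hq1 hq2 hq3 hq4 using fun ψ : {ψ // ψ ∈ B} => exists_int_proj hM hB hχ₁ ψ.2
    set q' : IrrCharacter G → ℤ := fun ψ => if h : ψ ∈ B then q ⟨ψ, h⟩ else 0 with hq'
    have hG : (Nat.card G : ℂ) ≠ 0 := Nat.cast_ne_zero.2 Nat.card_pos.ne'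
    have hq'' : ∀ ψ ∈ B, (p : ℂ) ^ blockDefect p B * regS p (χ₁ : G → ℂ) (ψ : G → ℂ) =
        (Nat.card G : ℂ) * q' ψ := fun ψ hψ => by
      simp only [hq', dif_pos hψ]; exact hq ⟨ψ, hψ⟩
    set θ' : G → ℂ := ∑ ψ ∈ bset B, (q' ψ : ℂ) • (ψ : G → ℂ) with hθ'
    obtain ⟨c', hc'⟩ := good_of_vanish hgen (θ := θ') (isGenChar_sum _ _ fun φ _ =>
      isGenChar_intSmul (q' φ) (isGenChar_of_char (isCharacter_of_irr φ.2))) (fun x hx => by
        refine (mul_eq_zero.1 ?_).resolve_left hG
        rw [hθ', Finset.sum_apply, Finset.mul_sum, Finset.sum_congr rfl fun ψ hψ => show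
          (Nat.card G : ℂ) * ((q' ψ : ℂ) • (ψ : G → ℂ)) x = (p : ℂ) ^ blockDefect p B *
            (regS p (χ₁ : G → ℂ) (ψ : G → ℂ) * (ψ : G → ℂ) x) by
          rw [Pi.smul_apply, smul_eq_mul, ← mul_assoc, ← hq'' ψ (mem_bset.1 hψ), mul_assoc],
          ← Finset.mul_sum, sum_regS_mul hM hB χ₁ x, if_pos hx, mul_zero])
    choose N hN0 hN using hspan
    set a : ℤ := ∑ l, c' l * (N l l₀ : ℤ) with ha
    have hconst : ∀ ψ ∈ B, t l₀ ψ ≠ 0 → q' ψ = a := by
      intro ψ hψ hne
      have h := hc' ψ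
      rw [hθ', classInner_comb B (fun φ => (q' φ : ℂ)) ψ, ind_of_mem hψ, one_mul] at h
      simp only [ht] at h
      have h1 : q' ψ = ∑ l, c' l * (t l ψ : ℤ) := by exact_mod_cast h
      rw [h1, ha]
      refine Finset.sum_congr rfl fun l _ => ?_
      congr 1
      rw [hN l ψ hψ, Finset.sum_eq_single l₀, hval ψ hψ hne, Nat.cast_one, mul_one]
      · intro l' _ hl'
        have h2 := hone ψ hψ l₀ l' (mul_ne_zero hc0 (by exact_mod_cast hne)) hl'
        rcases mul_eq_zero.1 h2 with h3 | h3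
        · rw [hN0 l l' h3, Nat.cast_zero, zero_mul]
        · rw [h3, mul_zero]
      · simp
    have hS : ∑ ψ ∈ bset B, q' ψ * (t l₀ ψ : ℤ) = 0 := by
      have h : (Nat.card G : ℂ) * ((∑ ψ ∈ bset B, q' ψ * (t l₀ ψ : ℤ) : ℤ) : ℂ) =
          (p : ℂ) ^ blockDefect p B * ((Nat.card G : ℂ) * tr hM χ₁ (e l₀)) := by
        rw [← sum_regS_tr hM hB hχ₁ (hee l₀), Finset.mul_sum]
        push_cast
        rw [Finset.mul_sum]
        refine Finset.sum_congr rfl fun ψ hψ => ?_
        rw [← mul_assoc, ← hq'' ψ (mem_bset.1 hψ), ht l₀ ψ, mul_assoc]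
      rw [ht l₀ χ₁, hzero, Nat.cast_zero, mul_zero, mul_zero] at h
      exact_mod_cast (mul_eq_zero.1 h).resolve_left hG
    have ha0 : a = 0 := by
      rw [Finset.sum_congr rfl fun ψ hψ => show q' ψ * (t l₀ ψ : ℤ) = a * (t l₀ ψ : ℤ) by
        by_cases hne : t l₀ ψ = 0
        · simp [hne]
        · rw [hconst ψ (mem_bset.1 hψ) hne], ← Finset.mul_sum] at hS
      refine (mul_eq_zero.1 hS).resolve_right fun h => ?_
      have h' := (Finset.sum_eq_zero_iff_of_nonneg fun ψ _ => Int.natCast_nonneg (t l₀ ψ)).1 h χ₀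
        (mem_bset.2 hχ₀)
      exact hl₀ (by rw [h', mul_zero])
    have hdv : dv p (χ₁ : G → ℂ) = minDv p B := by
      rw [← h0]
      simp only [dv, hdeg χ₁ hχ₁, hdeg χ₀ hχ₀]
    have h3 := hq2 ⟨χ₀, hχ₀⟩ hdv h0
    apply h3
    have h4 := hconst χ₀ hχ₀ (fun h => hl₀ (by rw [h, Nat.cast_zero, mul_zero]))
    simp only [hq', dif_pos hχ₀, ha0] at h4
    rw [h4]
    exact dvd_zero _
  have htr : ∀ χ : IrrCharacter G, tr hM χ (e l₀) = ind B χ := by
    intro χ
    rw [ht]
    by_cases hχ : χ ∈ B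
    · rw [ind_of_mem hχ, hall χ hχ, Nat.cast_one]
    · have h := (Finset.sum_eq_zero_iff_of_nonneg fun l _ => hnn χ l).1
        ((hsum χ).trans (if_neg hχ)) l₀ (Finset.mem_univ _)
      have h' : (t l₀ χ : ℤ) = 0 := (mul_eq_zero.1 h).resolve_left hc0
      rw [ind_of_notMem hχ, Int.natCast_eq_zero.1 h', Nat.cast_zero]
  refine ⟨e l₀, hee l₀, ?_, htr, ?_⟩
  rotate_left
  · intro x hx
    obtain ⟨Nx, hNx⟩ := hgen x hx
    choose N hN0 hN using hspan
    refine ⟨∑ l, Nx l * N l l₀, fun χ => ?_⟩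
    rw [tr_blockE_mul hM hB]
    by_cases hχ : χ ∈ B
    · rw [ind_of_mem hχ, one_mul, mul_one, hNx]
      push_cast
      refine Finset.sum_congr rfl fun l _ => ?_
      have h1 : (t l χ : ℤ) = (N l l₀ : ℤ) := by
        rw [hN l χ hχ, Finset.sum_eq_single l₀]
        · rw [hall χ hχ, Nat.cast_one, mul_one]
        · intro l' _ hl'
          have h2 := hone χ hχ l₀ l' (mul_ne_zero hc0 (by rw [hall χ hχ]; norm_num)) hl'
          rcases mul_eq_zero.1 h2 with h3 | h3
          · rw [hN0 l l' h3, Nat.cast_zero, zero_mul]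
          · rw [h3, mul_zero]
        · simp
      rw [ht, show t l χ = N l l₀ by exact_mod_cast h1]
    · rw [ind_of_notMem hχ, zero_mul, mul_zero]
  set x := e l₀ - b * e l₀ with hx
  have hxx : x * x = x := by
    have h1 : e l₀ * (b * e l₀) = b * e l₀ := by rw [← mul_assoc, ← hbc, mul_assoc, hee]
    have h2 : b * e l₀ * e l₀ = b * e l₀ := by rw [mul_assoc, hee]
    have h3 : b * e l₀ * (b * e l₀) = b * e l₀ := by rw [mul_assoc, h1, ← mul_assoc, hbb]
    rw [hx, sub_mul, mul_sub, mul_sub, hee, h1, h2, h3]; abel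
  obtain ⟨R, hR, -, hRpos⟩ := deg_nat hxx
  have hx0 : x = 0 := by
    by_contra hne
    have h1 := hRpos hne
    have h2 : (R : ℂ) = 0 := by
      rw [← hR, ← sum_deg_tr]
      refine Finset.sum_eq_zero fun χ _ => ?_
      have h3 : tr hM χ (e l₀) = tr hM χ (b * e l₀) + tr hM χ x := by
        rw [← tr_add, hx, add_sub_cancel]
      rw [hb, tr_blockE_mul hM hB, htr] at h3
      have h4 : tr hM χ x = 0 := by
        by_cases hχ : χ ∈ B
        · rw [ind_of_mem hχ] at h3; linear_combination -h3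
        · rw [ind_of_notMem hχ] at h3; linear_combination -h3
      rw [h4, mul_zero]
    exact h1.ne' (by exact_mod_cast h2)
  exact (sub_eq_zero.1 hx0).symm

/-- Products in a corner cut out by a rank at most one idempotent. -/
theorem trace_corner_mul {V : Type*} [AddCommGroup V] [Module ℂ V] [FiniteDimensional ℂ V]
    (P X Y : Module.End ℂ V) (hP : P * P = P)
    (h1 : LinearMap.trace ℂ V P = 0 ∨ LinearMap.trace ℂ V P = 1) :
    LinearMap.trace ℂ V ((P * X * P) * (P * Y * P)) =
      LinearMap.trace ℂ V (P * X * P) * LinearMap.trace ℂ V (P * Y * P) := by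
  obtain ⟨q, hq⟩ := (LinearMap.isProj_iff_isIdempotentElem _).2 (hP : IsIdempotentElem P)
  rw [hq.trace] at h1
  rcases h1 with h0 | h0
  · have hbot : q = ⊥ := Submodule.finrank_eq_zero.1 (by exact_mod_cast h0)
    have hP0 : P = 0 := LinearMap.ext fun w => by
      simpa [hbot] using hq.map_mem w
    simp [hP0]
  · have h0' : Module.finrank ℂ q = 1 := by exact_mod_cast h0
    obtain ⟨v, hv⟩ := finrank_eq_one_iff'.1 h0'
    have key : ∀ Z : Module.End ℂ V, ∃ a : ℂ, P * Z * P = a • P := by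
      intro Z
      obtain ⟨a, ha⟩ := hv.2 ⟨P (Z (v : V)), hq.map_mem _⟩
      refine ⟨a, LinearMap.ext fun w => ?_⟩
      obtain ⟨c, hc⟩ := hv.2 ⟨P w, hq.map_mem w⟩
      have hc' : c • (v : V) = P w := congrArg Subtype.val hc
      have ha' : a • (v : V) = P (Z (v : V)) := congrArg Subtype.val ha
      show P (Z (P w)) = a • P w
      rw [← hc', map_smul, map_smul, ← ha', smul_comm]
    obtain ⟨a, ha⟩ := key X
    obtain ⟨b, hb⟩ := key Y
    have htrP : LinearMap.trace ℂ V P = 1 := by rw [hq.trace, h0', Nat.cast_one]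
    rw [ha, hb, smul_mul_smul_comm, hP, map_smul, map_smul, map_smul, htrP]
    simp

/-- The traces are multiplicative on the corner of an idempotent with traces at most one. -/
theorem tr_corner_mul {hM : IsPModular p M} {i : RG hM G} (hi : i * i = i) {χ : IrrCharacter G}
    (h1 : tr hM χ i = 0 ∨ tr hM χ i = 1) (x y : RG hM G) :
    tr hM χ ((i * x * i) * (i * y * i)) = tr hM χ (i * x * i) * tr hM χ (i * y * i) := by
  obtain ⟨n, ρ, -, hρ⟩ := χ.2
  let ρA : RG hM G →+* Module.End ℂ (Fin n → ℂ) :=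
    ρ.asAlgebraHom.toRingHom.comp (MonoidAlgebra.mapRingHom G (loc hM).subtype)
  have hρA : ∀ g a, ρA (single g a) = (a : ℂ) • ρ g := fun g a => by
    show ρ.asAlgebraHom (MonoidAlgebra.mapRingHom G (loc hM).subtype (single g a)) = _
    rw [show MonoidAlgebra.mapRingHom G (loc hM).subtype (single g a) = single g (a : ℂ) from
      MonoidAlgebra.map_single _ _ _, Representation.asAlgebraHom_single]
  have htr : ∀ z, LinearMap.trace ℂ _ (ρA z) = tr hM χ z := by
    intro z
    induction z using MonoidAlgebra.induction_linear with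
    | zero => simp [tr_zero]
    | add a b ha hb => simp only [map_add, ha, hb, tr_add]
    | single g a =>
      rw [hρA, map_smul, tr, tau_single, smul_eq_mul]
      show (a : ℂ) * _ = ((a * chiO hM χ g : loc hM) : ℂ)
      rw [Subring.coe_mul]
      congr 1
      exact congrFun hρ g
  rw [← htr, ← htr, ← htr]
  simp only [map_mul]
  exact trace_corner_mul (ρA i) (ρA x) (ρA y) (by rw [← map_mul, hi]) (by rw [htr]; exact h1)

/-- An element of a combination of corner elements is determined by its traces. -/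
theorem corner_comb_eq_zero {hM : IsPModular p M} {i : RG hM G} (hi : i * i = i)
    (h1 : ∀ χ : IrrCharacter G, tr hM χ i = 0 ∨ tr hM χ i = 1) {ι : Type*} [Fintype ι]
    (a : ι → RG hM G) (c : ι → ℂ)
    (h : ∀ χ : IrrCharacter G, ∑ j, c j * tr hM χ (i * a j * i) = 0) (g : G) :
    ∑ j, c j * toC (i * a j * i) g = 0 := by
  classical
  have hG : (Nat.card G : ℂ) ≠ 0 := Nat.cast_ne_zero.2 Nat.card_pos.ne'
  refine (mul_eq_zero.1 ?_).resolve_left hG
  set z : RG hM G := single g⁻¹ 1 with hz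
  have e : ∀ j, (Nat.card G : ℂ) * toC (i * a j * i) g =
      ∑ χ : IrrCharacter G, (χ : G → ℂ) 1 *
        (tr hM χ (i * a j * i) * tr hM χ (i * z * i)) := by
    intro j
    have e1 : toC (i * a j * i * z) 1 = toC (i * a j * i) g := by
      simp only [toC]
      rw [hz, MonoidAlgebra.coeff_mul_single_apply, inv_inv, one_mul, mul_one]
    rw [← e1, ← sum_deg_tr]
    refine Finset.sum_congr rfl fun χ _ => ?_
    rw [← tr_corner_mul hi (h1 χ)]
    congr 1
    calc tr hM χ (i * a j * i * z) = tr hM χ (i * (a j * i * z)) := by simp only [mul_assoc]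
      _ = tr hM χ (a j * i * z * i) := tr_mul_comm χ _ _
      _ = tr hM χ (a j * (i * z * i)) := by simp only [mul_assoc]
      _ = tr hM χ (i * z * i * a j) := tr_mul_comm χ _ _
      _ = tr hM χ (i * (i * z * i * a j)) := by simp only [← mul_assoc, hi]
      _ = tr hM χ ((i * z * i) * (a j * i)) := by rw [tr_mul_comm χ i]; simp only [mul_assoc]
      _ = tr hM χ ((a j * i) * (i * z * i)) := tr_mul_comm χ _ _
      _ = tr hM χ ((a j * i) * (i * z * (i * i))) := by rw [hi]
      _ = tr hM χ (((a j * i) * (i * z * i)) * i) := by simp only [mul_assoc]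
      _ = tr hM χ (i * ((a j * i) * (i * z * i))) := tr_mul_comm χ _ _
      _ = tr hM χ ((i * a j * i) * (i * z * i)) := by simp only [mul_assoc]
  rw [Finset.mul_sum]
  calc ∑ j, (Nat.card G : ℂ) * (c j * toC (i * a j * i) g)
      = ∑ j, ∑ χ : IrrCharacter G, (χ : G → ℂ) 1 * tr hM χ (i * z * i) *
          (c j * tr hM χ (i * a j * i)) := Finset.sum_congr rfl fun j _ => by
        rw [mul_left_comm, e j, Finset.mul_sum]
        exact Finset.sum_congr rfl fun χ _ => by ring
    _ = 0 := by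
        rw [Finset.sum_comm]
        exact Finset.sum_eq_zero fun χ _ => by rw [← Finset.mul_sum, h χ, mul_zero]

/-- Functions with independent reductions are independent. -/
theorem lift_indep (hM : IsPModular p M) {s : ℕ} {ι : Type*} [Fintype ι]
    (f : Fin s → ι → ℂ) (hf : ∀ j x, MemLocalRing M (f j x))
    (h : haveI := hM.2.1
      letI := Ideal.Quotient.field M
      LinearIndependent (AlgInt ⧸ M) fun j x => res hM (f j x)) :
    LinearIndependent ℂ f := by
  haveI := hM.2.1
  letI := Ideal.Quotient.field M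
  classical
  set F₀ : Matrix (Fin s) ι (loc hM) := Matrix.of fun j x => ⟨f j x, hf j x⟩ with hF
  have hr : F₀.map (resHom hM) = Matrix.of fun j x => res hM (f j x) := by ext; rfl
  set L : (Fin s → AlgInt ⧸ M) →ₗ[AlgInt ⧸ M] (ι → AlgInt ⧸ M) :=
    Matrix.vecMulLinear (F₀.map (resHom hM)) with hL
  have hinj : LinearMap.ker L = ⊥ := by
    rw [LinearMap.ker_eq_bot]
    show Function.Injective (F₀.map (resHom hM)).vecMul
    rw [Matrix.vecMul_injective_iff, hr]
    exact h
  obtain ⟨R, hR⟩ := L.exists_leftInverse_of_injective hinj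
  have hsurj : Function.Surjective (resHom hM) := by
    intro x
    obtain ⟨z, rfl⟩ := Ideal.Quotient.mk_surjective x
    exact ⟨⟨_, memRing_coe hM z⟩, res_coe hM z⟩
  choose gg hgg using hsurj
  set X : Matrix ι (Fin s) (loc hM) :=
    Matrix.of fun x j => gg (R (Pi.single x 1) j) with hX
  have hFX : (F₀ * X).map (resHom hM) = 1 := by
    have hXr : X.map (resHom hM) = Matrix.of fun x j => R (Pi.single x 1) j := by
      ext x j; exact hgg _
    rw [Matrix.map_mul, hXr]
    ext a j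
    have h1 := congrArg (fun T : (Fin s → AlgInt ⧸ M) →ₗ[AlgInt ⧸ M] (Fin s → AlgInt ⧸ M) => T (Pi.single a 1) j) hR
    simp only [LinearMap.comp_apply, LinearMap.id_coe, id_eq] at h1
    rw [Matrix.mul_apply]
    have h2 : L (Pi.single a 1) = ∑ x, (F₀.map (resHom hM)) a x • Pi.single x (1 : AlgInt ⧸ M) := by
      funext y
      simp [hL, Matrix.single_vecMul, Pi.single_apply, Finset.sum_apply]
    rw [h2, map_sum, Finset.sum_apply] at h1
    simp only [map_smul, Pi.smul_apply, smul_eq_mul] at h1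
    rw [Matrix.one_apply, ← Pi.single_apply, Pi.single_comm]
    exact h1
  have hdet : resHom hM (F₀ * X).det = 1 := by
    rw [RingHom.map_det, RingHom.mapMatrix_apply, hFX, Matrix.det_one]
  have hdetC : ((F₀ * X).map (loc hM).subtype).det ≠ 0 := by
    rw [← RingHom.mapMatrix_apply, ← RingHom.map_det]
    intro h0
    rw [show (F₀ * X).det = 0 from Subtype.val_injective h0, map_zero] at hdet
    exact zero_ne_one hdet
  rw [Fintype.linearIndependent_iff]
  intro c hc
  have h1 : Matrix.vecMul c (F₀.map (loc hM).subtype) = 0 := by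
    funext x
    have := congrFun hc x
    simp only [Finset.sum_apply, Pi.smul_apply, smul_eq_mul, Pi.zero_apply] at this
    rw [Pi.zero_apply, ← this]
    rfl
  have h2 : Matrix.vecMul c ((F₀ * X).map (loc hM).subtype) = 0 := by
    rw [Matrix.map_mul, ← Matrix.vecMul_vecMul, h1, Matrix.zero_vecMul]
  exact fun j => congrFun (Matrix.eq_zero_of_vecMul_eq_zero hdetC h2) j

end CfsgLib.Blocks.EqualDegree
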