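import Cfsg.Agent.Lib.Blocks.EqualDegree.Center
import Cfsg.Agent.Lib.Blocks.PairDefect
import Cfsg.Agent.Lib.Blocks.CentralQuotient
import Cfsg.Agent.Lib.Blocks.FirstMain

/-!
# A block with equal degrees and abelian defect group has trivial inertial quotient
-/

namespace CfsgLib.Blocks.EqualDegree

open Cfsg CfsgLib.CharTheory CfsgLib.Blocks CfsgLib.Blocks.Star CfsgLib.BlockDegreeSquares
open MonoidAlgebra (single)
open scoped ComplexConjugate

set_option linter.unusedVariables false
set_option linter.unusedSectionVars false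
set_option linter.unusedSimpArgs false
set_option linter.style.haveILetI false

universe u

variable {p : ℕ} {M : Ideal AlgInt} {G : Type u} [Group G] [Fintype G]

/-- The defect group of the block of a maximal pair with abelian group. -/
theorem defect_maximal_abelian (hM : IsPModular p M) {B : Set (IrrCharacter G)} {D : Subgroup G}
    {e : Set (IrrCharacter (Subgroup.centralizer (D : Set G)))}
    (hmax : IsMaximalBrauerPair p M B D e) (hDC : D ≤ Subgroup.centralizer (D : Set G)) :
    IsDefectGroup p M e (D.subgroupOf (Subgroup.centralizer (D : Set G))) := by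
  have hD := hmax.1.1.1
  have he := hmax.1.1.2
  have hrefl : SubpairLE p M D e D e := Relation.ReflTransGen.refl
  obtain ⟨x, hle, hcard⟩ := exists_conj_centP hM hmax he hrefl
  have hx : D.map (MulAut.conj x).toMonoidHom = D :=
    Subgroup.eq_of_le_of_card_ge (subpairLE_le (a := ⟨_, _⟩) (b := ⟨D, e⟩) hle)
      (card_map_conj D x).ge
  rw [hx, inf_eq_left.2 hDC] at hcard
  have h := isDefect_centP hM hD le_rfl he he hrefl (by rw [inf_eq_left.2 hDC]; exact hcard.le)
  rwa [inf_eq_left.2 hDC] at h

/-- Restriction of a coefficient vector to a subgroup. -/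
noncomputable def rC {k : Type*} [CommRing k] (C : Subgroup G) [Fintype C] :
    MonoidAlgebra k G →ₗ[k] MonoidAlgebra k C where
  toFun y := ofFn fun c : C => y.coeff c
  map_add' x y := ext_coeff fun c => by simp [coeff_ofFn]
  map_smul' a y := ext_coeff fun c => by simp [coeff_ofFn]

theorem coeff_rC {k : Type*} [CommRing k] (C : Subgroup G) [Fintype C]
    (y : MonoidAlgebra k G) (c : C) : (rC C y).coeff c = y.coeff c := rfl

/-- Restriction to the centralizer of a `p`-group is multiplicative on central elements. -/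
theorem rC_mul {k : Type*} [Field k] [Fact p.Prime] [CharP k p] {P : Subgroup G}
    (hP : IsPGroup p P) [Fintype (Subgroup.centralizer (P : Set G))] {x y : MonoidAlgebra k G}
    (hx : x ∈ fixA k (P : Set G)) (hy : y ∈ fixA k (P : Set G)) :
    rC (Subgroup.centralizer (P : Set G)) (x * y) =
      rC (Subgroup.centralizer (P : Set G)) x * rC (Subgroup.centralizer (P : Set G)) y := by
  classical
  refine ext_coeff fun c => ?_
  rw [coeff_rC, ← coeff_br_mem P (x * y) c.2, br_mul hP hx hy, coeff_mul_sum, coeff_mul_sum,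
    ← Finset.sum_filter_of_ne (s := (Finset.univ : Finset G))
      (p := fun h => h ∈ Subgroup.centralizer (P : Set G)) (fun h _ hne => by
        by_contra hc; exact hne (by rw [coeff_br_notMem P x hc, zero_mul]))]
  symm
  refine Finset.sum_bij (fun h _ => (h : G)) ?_ (fun _ _ _ _ e => Subtype.ext e) ?_ ?_
  · intro h _; simp
  · intro h hh; exact ⟨⟨h, (Finset.mem_filter.1 hh).2⟩, Finset.mem_univ _, rfl⟩
  · intro h _
    have hm := (Subgroup.centralizer (P : Set G)).mul_mem
      ((Subgroup.centralizer (P : Set G)).inv_mem h.2) c.2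
    rw [coeff_rC, coeff_rC, coeff_br_mem P x h.2, coeff_br_mem P y hm]
    rfl

/-- The blocks of `C(P)` seen by the idempotent of `B` are those of the orbit of a maximal pair. -/
theorem res_blockCoeff_orbit (hM : IsPModular p M) {B : Set (IrrCharacter G)} {P : Subgroup G}
    {e : Set (IrrCharacter (Subgroup.centralizer (P : Set G)))}
    (hmax : IsMaximalBrauerPair p M B P e) [Fintype (Subgroup.centralizer (P : Set G))]
    (c : Subgroup.centralizer (P : Set G)) :
    res hM (blockCoeff B c) = res hM (CfsgLib.Blocks.conv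
      (fun k : Subgroup.centralizer (P : Set G) => blockCoeff B k) (orbFn e) c) := by
  classical
  have hP := hmax.1.1.1
  have he := hmax.1.1.2
  have hB := hmax.1.2.1
  set β := blockCoeff B with hβ
  set γ := sext (Subgroup.centralizer (P : Set G)) (orbFn e) with hγ
  have hnb : Nice M P β := nice_blockCoeff hM hB
  have hng : Nice M P γ := nice_sext_centralizer hM (orbFn_cls e) (orbFn_mem hM he)
  have horb : conv (orbFn e) (orbFn e) = orbFn e := by
    have h1 : orbFn e = cf (∑ b ∈ orbitBlocks e, ind b) := by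
      funext k
      rw [cf_sum, Finset.sum_apply]
      simp only [cf_ind]
      rfl
    rw [h1, ← cf_mul]
    congr 1
    funext χ
    rw [Pi.mul_apply, Finset.sum_apply]
    by_cases h : ∃ b ∈ orbitBlocks e, χ ∈ b
    · obtain ⟨b, hb, hχ⟩ := h
      rw [Finset.sum_eq_single b (fun b' hb' hne => ind_of_notMem fun h' => hne
        ((eq_blockOf hM (isPBlock_orbit he hb') h').trans
          (eq_blockOf hM (isPBlock_orbit he hb) hχ).symm)) (fun h' => absurd hb h'),
        ind_of_mem hχ, mul_one]
    · push Not at h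
      rw [Finset.sum_eq_zero fun b hb => ind_of_notMem (h b hb), mul_zero]
  have hgg : conv γ γ = γ := by rw [hγ, sext_conv, horb]
  set b₀ := toO hM β with hb₀
  set o₀ := toO hM γ with ho₀
  have hCb : toC b₀ = β := toC_toO hM hnb.mem
  have hCo : toC o₀ = γ := toC_toO hM hng.mem
  have hbb : b₀ * b₀ = b₀ := blockE_idem hM hB
  have hoo : o₀ * o₀ = o₀ := toC_inj (by rw [toC_mul, hCo, hgg])
  have hbc := blockE_comm hM hB (G := G) o₀
  set x := b₀ - b₀ * o₀ with hx
  have hxx : x * x = x := by
    have h1 : b₀ * (b₀ * o₀) = b₀ * o₀ := by rw [← mul_assoc, hbb]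
    have h2 : b₀ * o₀ * b₀ = b₀ * o₀ := by rw [mul_assoc, ← hbc, h1]
    have h3 : b₀ * o₀ * (b₀ * o₀) = b₀ * o₀ := by rw [← mul_assoc, h2, mul_assoc, hoo]
    rw [hx, sub_mul, mul_sub, mul_sub, hbb, h1, h2, h3]; abel
  have hCx : toC x = fun g => β g - conv β γ g := by
    funext g
    have h1 : conv β γ g = toC (b₀ * o₀) g := by rw [toC_mul, hCb, hCo]
    rw [h1, ← hCb]
    simp only [toC, hx, MonoidAlgebra.coeff_sub, Finsupp.sub_apply, AddSubgroupClass.coe_sub]
  have hnx : Nice M P (toC x) := by rw [hCx]; exact hnb.sub hM (hnb.conv hM hng)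
  have h0 := res_eq_zero_of_lam_zero hM hP hnx (by rw [← toC_mul, hxx]) (fun ξ => by
    rw [hCx, lam_sub hM hnb (hnb.conv hM hng), lam_conv hM hP hnb hng]
    haveI := res_isDomain hM
    rcases eq_or_ne (lam hM P β ξ) 0 with h | h
    · rw [h, zero_mul, sub_zero]
    · have h1 : lam hM P β ξ = 1 := by
        have h2 := lam_conv hM hP hnb hnb ξ
        rw [hβ, conv_blockCoeff, ← hβ] at h2
        exact (mul_eq_left₀ h).1 h2.symm
      have hpair : IsBrauerPairOf p M B P
          (blockOf M (ξ : Subgroup.centralizer (P : Set G) → ℂ)) :=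
        ⟨⟨hP, blockOf_isPBlock ξ⟩, hB, (forall_memIdeal_iff_lam hM hnb (blockOf_isPBlock ξ)
          (mem_blockOf_self hM ξ)).2 h1⟩
      obtain ⟨n, hn, hne⟩ := pairs_orbit hM hmax hpair
      rw [hγ, (lam_orbFn hM he ξ).1 _ (mem_orbitBlocks.2 ⟨n, hn, hne⟩) (mem_blockOf_self hM ξ),
        mul_one, sub_self]) c.2
  rw [hCx] at h0
  simp only at h0
  rw [res_sub hM (hnb.mem _) ((hnb.conv hM hng).mem _), sub_eq_zero] at h0
  rw [h0, res_conv_restrict hM hP hnb hng c]
  simp only [hγ, sext_coe]

/-- Restriction to a subgroup followed by the projection to one of its blocks. -/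
noncomputable def centerMap (hM : IsPModular p M) {C : Subgroup G} [Fintype C]
    {e : Set (IrrCharacter C)} (he : IsPBlock M e) {B : Set (IrrCharacter G)} :
    Zb hM B →ₗ[AlgInt ⧸ M] Zb hM e where
  toFun y := ⟨rC C (y : MonoidAlgebra (AlgInt ⧸ M) G) * epsB hM e, by
    have hc : ∀ x, rC C (y : MonoidAlgebra (AlgInt ⧸ M) G) * x =
        x * rC C (y : MonoidAlgebra (AlgInt ⧸ M) G) :=
      central_of_coeff_conj fun t c => coeff_conj_of_central y.2.1 (t : G) (c : G)
    refine ⟨fun x => ?_, ?_⟩
    · rw [mul_assoc, epsB_central hM e, ← mul_assoc, hc, mul_assoc]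
    · rw [← mul_assoc, epsB_central hM e, mul_assoc, epsB_idem hM he]⟩
  map_add' y z := Subtype.ext (by simp only [Submodule.coe_add, map_add, add_mul])
  map_smul' a y := Subtype.ext (by
    simp only [Submodule.coe_smul, map_smul, smul_mul_assoc, RingHom.id_apply])

/-- The stabilizer of a maximal pair centralizes an abelian defect group when all degrees in the
block are equal. -/
theorem stab_centralizes [Fact p.Prime] (hM : IsPModular p M) {B : Set (IrrCharacter G)}
    {g : ℕ} (hg0 : g ≠ 0) (hdeg : ∀ χ ∈ B, charDegree (χ : G → ℂ) = g) {D : Subgroup G}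
    {e : Set (IrrCharacter (Subgroup.centralizer (D : Set G)))}
    (hmax : IsMaximalBrauerPair p M B D e) (hab : ∀ x ∈ D, ∀ y ∈ D, x * y = y * x) {n : G}
    (hn : n ∈ Subgroup.normalizer (D : Set G))
    (hst : StabilizesBlock (Subgroup.centralizer (D : Set G)) e n) :
    n ∈ Subgroup.centralizer (D : Set G) := by
  classical
  haveI := hM.2.1
  letI := kField hM
  haveI : CharP (AlgInt ⧸ M) p := res_charP hM
  haveI := Fintype.ofFinite (Subgroup.centralizer (D : Set G))
  have hDp := hmax.1.1.1
  have he := hmax.1.1.2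
  have hB := hmax.1.2.1
  have hD : IsDefectGroup p M B D := maximal_isDefectGroup hM hmax
  have hDC : D ≤ Subgroup.centralizer (D : Set G) := fun x hx y hy => hab y hy x hx
  -- the number of characters is at least the order of the defect group
  have hk : Nat.card D ≤ (bset B).card := by
    obtain ⟨χ, hχ, hχ0⟩ := exists_height_zero hM hB
    obtain ⟨v, -, hv⟩ := exists_lattice hM hB g hg0 (fun φ hφ => (hdeg φ hφ).symm.dvd) (by
      rw [← hχ0]; simp only [dv, hdeg χ hχ])
    rw [Finset.sum_congr rfl fun φ hφ => by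
      rw [hdeg φ (mem_bset.1 hφ), Nat.div_self (Nat.pos_of_ne_zero hg0), one_pow],
      Finset.sum_const, smul_eq_mul, mul_one] at hv
    rw [card_defectGroup hM hB hD, hv]
    refine Nat.le_mul_of_pos_right _ (Nat.pos_of_ne_zero fun h => ?_)
    rw [h, mul_zero, Finset.card_eq_zero] at hv
    exact Finset.notMem_empty χ (hv ▸ mem_bset.2 hχ)
  -- the local block
  have hDc := defect_maximal_abelian hM hmax hDC
  set DC := D.subgroupOf (Subgroup.centralizer (D : Set G)) with hDCdef
  have hDCp : IsPGroup p DC := defectGroup_isPGroup hDc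
  have hDCcen : ∀ x ∈ DC, ∀ c : Subgroup.centralizer (D : Set G), c * x = x * c := fun x hx c =>
    Subtype.ext (c.2 x (Subgroup.mem_subgroupOf.1 hx)).symm
  have hcard : (bset e).card = Nat.card D := by
    haveI : Fintype DC := Fintype.ofFinite _
    have htop : DC ⊔ Subgroup.centralizer (DC : Set (Subgroup.centralizer (D : Set G))) = ⊤ :=
      eq_top_iff.2 fun c _ => Subgroup.mem_sup_right fun x hx => (hDCcen x hx c).symm
    haveI : DC.Normal := normal_of_central fun d hd => Subgroup.mem_center_iff.2 (hDCcen d hd)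
    have h := card_pcent hM hDCp htop he hDc
    have hcomm : ∀ a b : DC, a * b = b * a := fun a b =>
      Subtype.ext (hDCcen b b.2 a)
    have hcl : Nat.card (ConjClasses DC) = Nat.card DC :=
      (Nat.card_congr (Equiv.ofBijective ConjClasses.mk ⟨fun a b hab' => by
        obtain ⟨c, hc⟩ := isConj_iff.1 (ConjClasses.mk_eq_mk_iff_isConj.1 hab')
        rwa [hcomm c a, mul_inv_cancel_right] at hc, ConjClasses.mk_surjective⟩)).symm
    rw [hcl, hDCdef, Nat.card_congr (Subgroup.subgroupOfEquivOfLe hDC).toEquiv] at h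
    rw [← h, Nat.card_eq_card_toFinset]
    congr 1
    ext χ
    simp [mem_bset]
  -- the conjugations
  set εC := epsB hM e with hεC
  have hrot : rot hn e = e :=
    (stabilizesBlock_iff (normalizer_le_normalizer_cent D hn)).1 hst
  -- coefficients of the restriction
  have hinv : ∀ {y : MonoidAlgebra (AlgInt ⧸ M) G}, (∀ x, y * x = x * y) →
      ∀ {m : G} (hm : m ∈ Subgroup.normalizer (D : Set G)) (c : Subgroup.centralizer (D : Set G)),
      (rC (Subgroup.centralizer (D : Set G)) y).coeff
          (conjE (normalizer_le_normalizer_cent D hm) c) =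
        (rC (Subgroup.centralizer (D : Set G)) y).coeff c := fun hy m hm c => by
    rw [coeff_rC, coeff_rC, conjE_coe]
    have h := coeff_conj_of_central hy m⁻¹ (c : G)
    rwa [inv_inv] at h
  have hεb : ∀ {m : G} (hm : m ∈ Subgroup.normalizer (D : Set G))
      (c : Subgroup.centralizer (D : Set G)),
      (epsB hM (rot hm e)).coeff c =
        εC.coeff (conjE (normalizer_le_normalizer_cent D hm) c) := fun hm c => by
    simp only [hεC, epsB, coeff_ofFn, rot, blockCoeff_image]
  have hconjmul : ∀ {y : MonoidAlgebra (AlgInt ⧸ M) G}, (∀ x, y * x = x * y) →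
      ∀ {m : G} (hm : m ∈ Subgroup.normalizer (D : Set G)) (c : Subgroup.centralizer (D : Set G)),
      (rC (Subgroup.centralizer (D : Set G)) y * εC).coeff
          (conjE (normalizer_le_normalizer_cent D hm) c) =
        (rC (Subgroup.centralizer (D : Set G)) y * epsB hM (rot hm e)).coeff c := fun hy m hm c => by
    rw [coeff_mul_sum, coeff_mul_sum]
    symm
    refine Fintype.sum_equiv (conjE (normalizer_le_normalizer_cent D hm)).toEquiv _ _ fun h => ?_
    show _ = (rC _ _).coeff (conjE (normalizer_le_normalizer_cent D hm) h) * _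
    rw [hinv hy hm h, hεb hm, map_mul, map_inv]
    rfl
  -- the map of centers
  set Φ := centerMap hM he (B := B) with hΦ
  have hfix : ∀ {y : MonoidAlgebra (AlgInt ⧸ M) G}, (∀ x, y * x = x * y) →
      y ∈ fixA (AlgInt ⧸ M) (D : Set G) := fun hy =>
    mem_fixA.2 fun s _ => (cj_eq_iff _ _).2 (hy _).symm
  have hinj : Function.Injective Φ := by
    rw [← LinearMap.ker_eq_bot, Submodule.eq_bot_iff]
    intro y hy
    have hy0 : rC (Subgroup.centralizer (D : Set G)) (y : MonoidAlgebra (AlgInt ⧸ M) G) * εC = 0 :=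
      congrArg Subtype.val hy
    set R := rC (Subgroup.centralizer (D : Set G)) (y : MonoidAlgebra (AlgInt ⧸ M) G) with hR
    have hb : ∀ b ∈ orbitBlocks e, R * epsB hM b = 0 := by
      intro b hb
      obtain ⟨m, hm, rfl⟩ := mem_orbitBlocks.1 hb
      refine ext_coeff fun c => ?_
      rw [hR, ← hconjmul y.2.1 hm c, ← hR, hy0]
      rfl
    have hεo : rC (Subgroup.centralizer (D : Set G)) (epsB hM B) =
        rC (Subgroup.centralizer (D : Set G)) (epsB hM B) *
          ∑ b ∈ orbitBlocks e, epsB hM b := by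
      refine ext_coeff fun c => ?_
      rw [coeff_rC, epsB, coeff_ofFn, res_blockCoeff_orbit hM hmax c, coeff_mul_sum,
        CfsgLib.Blocks.conv,
        res_sum hM fun x _ => (loc hM).mul_mem (memRing_blockCoeff hM hB _) (orbFn_mem hM he _)]
      refine Finset.sum_congr rfl fun x _ => ?_
      rw [res_mul hM (memRing_blockCoeff hM hB _) (orbFn_mem hM he _), coeff_rC, coeff_ofFn]
      congr 1
      rw [MonoidAlgebra.coeff_sum, Finsupp.finsetSum_apply, orbFn,
        res_sum hM fun b hb' => memRing_blockCoeff hM (isPBlock_orbit he hb') _]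
      rfl
    have hR0 : R = 0 := by
      have hRε : R = R * rC (Subgroup.centralizer (D : Set G)) (epsB hM B) := by
        rw [hR, ← rC_mul hDp (hfix y.2.1) (hfix (epsB_central hM B)), y.2.1, y.2.2]
      rw [hRε, hεo, Finset.mul_sum, Finset.mul_sum]
      refine Finset.sum_eq_zero fun b hb' => ?_
      rw [← mul_assoc, ← hRε, hb b hb']
    refine Subtype.ext (eq_zero_of_vanish hM hB hg0 hdeg hD y.2 fun x hx => ?_)
    have h := congrArg (fun z => z.coeff (⟨x, hx⟩ : Subgroup.centralizer (D : Set G))) hR0
    simpa [hR, coeff_rC] using h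
  haveI : FiniteDimensional (AlgInt ⧸ M)
      (MonoidAlgebra (AlgInt ⧸ M) (Subgroup.centralizer (D : Set G))) :=
    Star.finite_monoidAlgebra
  have hsurj : Function.Surjective Φ := by
    rw [← LinearMap.range_eq_top]
    refine Submodule.eq_top_of_finrank_eq ?_
    have h1 := LinearMap.finrank_range_of_inj hinj
    have h2 := Submodule.finrank_le (LinearMap.range Φ)
    rw [finrank_Zb hM he, hcard] at h2 ⊢
    rw [finrank_Zb hM hB] at h1
    omega
  -- every element of the center of the local block is stable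
  have hstable : ∀ z ∈ Zb hM e, ∀ c : Subgroup.centralizer (D : Set G),
      z.coeff (conjE (normalizer_le_normalizer_cent D hn) c) = z.coeff c := by
    intro z hz c
    obtain ⟨y, hy⟩ := hsurj ⟨z, hz⟩
    have hy' : rC (Subgroup.centralizer (D : Set G)) (y : MonoidAlgebra (AlgInt ⧸ M) G) * εC = z :=
      congrArg Subtype.val hy
    rw [← hy', hconjmul y.2.1 hn c, hrot]
  intro x hx
  set x' : Subgroup.centralizer (D : Set G) := ⟨x, hDC hx⟩ with hx'
  have hx'D : x' ∈ DC := Subgroup.mem_subgroupOf.2 hx
  have hzc : ∀ w, single x' (1 : AlgInt ⧸ M) * w = w * single x' 1 := by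
    intro w
    induction w using MonoidAlgebra.induction_linear with
    | zero => simp
    | add a b ha hb => rw [mul_add, add_mul, ha, hb]
    | single c a =>
      rw [MonoidAlgebra.single_mul_single, MonoidAlgebra.single_mul_single, hDCcen x' hx'D c,
        mul_comm 1 a]
  have hz : εC * single x' 1 ∈ Zb hM e := by
    refine ⟨fun w => ?_, ?_⟩
    · rw [mul_assoc, hzc, ← mul_assoc, hεC, epsB_central hM e, mul_assoc]
    · rw [← mul_assoc, hεC, epsB_idem hM he]
  obtain ⟨h₀, hh₀⟩ := exists_defectClass hM he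
  set κ := conjE (normalizer_le_normalizer_cent D hn) with hκ
  have hne : ∀ c, εC.coeff c ≠ 0 → ¬ p ∣ orderOf c := fun c hc hp => hc (by
    rw [hεC, epsB, coeff_ofFn, blockCoeff_eq_zero_singular hM he hp, res_zero])
  have hh0' : εC.coeff h₀ ≠ 0 := fun h => hh₀.2.1 (by
    rw [hεC, epsB, coeff_ofFn] at h
    exact (res_eq_zero_iff hM (memRing_blockCoeff hM he _)).1 h)
  have hκε : ∀ c, εC.coeff (κ c) = εC.coeff c := fun c => by
    rw [hκ, ← hεb hn c, hrot]
  have hval : εC.coeff (κ h₀ * (κ x' * x'⁻¹)) ≠ 0 := by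
    have h := hstable _ hz (h₀ * x')
    rw [MonoidAlgebra.coeff_mul_single_apply, MonoidAlgebra.coeff_mul_single_apply, mul_one,
      mul_one, mul_inv_cancel_right, map_mul κ, mul_assoc] at h
    rw [h]
    exact hh0'
  have hκx : κ x' ∈ DC := Subgroup.mem_subgroupOf.2 (by
    rw [hκ, conjE_coe]
    exact (Subgroup.mem_normalizer_iff''.1 hn x).1 hx)
  have hu1 : κ x' * x'⁻¹ = 1 := by
    by_contra hne1
    refine hne _ hval ?_
    rw [hDCcen _ (DC.mul_mem hκx (DC.inv_mem hx'D)) (κ h₀)]
    refine singular_mul_central hM hDCp (fun d hd => Subgroup.mem_center_iff.2 fun c =>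
      hDCcen d hd c) (DC.mul_mem hκx (DC.inv_mem hx'D)) hne1 ?_
    exact hne _ (by rw [hκε]; exact hh0')
  have h1 : n⁻¹ * x * n = x := by
    have h := congrArg Subtype.val (mul_inv_eq_one.1 hu1)
    rwa [hκ, conjE_coe] at h
  calc x * n = n * (n⁻¹ * x * n) := by group
    _ = n * x := by rw [h1]

end CfsgLib.Blocks.EqualDegree
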