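import Cfsg.Agent.Lib.Blocks.Nilpotent
import Cfsg.Agent.Lib.Fusion.Quotient

/-!
# Nilpotency of a block with normal defect group and trivial inertial quotient
-/

namespace CfsgLib.Blocks.EqualDegree

open Cfsg CfsgLib.CharTheory CfsgLib.Blocks

set_option linter.unusedVariables false
set_option linter.unusedSectionVars false
set_option linter.style.haveILetI false

universe u

variable {p : ℕ} {M : Ideal AlgInt} {G : Type u} [Group G] [Fintype G]

/-- A block with normal defect group is nilpotent once the inertial quotient is trivial. -/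
theorem nilpotent_of_stab_centralizes [Fact p.Prime] (hM : IsPModular p M)
    {B : Set (IrrCharacter G)} {D : Subgroup G} [D.Normal]
    {e : Set (IrrCharacter (Subgroup.centralizer (D : Set G)))}
    (hmax : IsMaximalBrauerPair p M B D e)
    (h : ∀ x ∈ pairStab D e, IsPRegular p x → x ∈ Subgroup.centralizer (D : Set G)) :
    IsNilpotentBlock p M B := by
  classical
  set F := blockFusion hM hmax with hFdef
  have hF : IsBlockFusionSystemOn p M B D e F := blockFusion_isBlockFusion hM hmax
  have hDp : IsPGroup p D := hmax.1.1.1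
  have he := hmax.1.1.2
  have hconjD : ∀ (g x : G), x ∈ D → g * x * g⁻¹ ∈ D := fun g x hx =>
    (inferInstance : D.Normal).conj_mem x hx g
  suffices key : ∀ (n : ℕ) (Q : Subgroup G), Q ≤ D → Nat.card D - Nat.card Q = n →
      IsPGroup p (F.autGroup Q) from nilpotent_of_hom_eq_inner hM hF fun Q =>
    (blockFusion_isSaturated hM hF).eq_inner_of_isPGroup hDp (fun Q hQ => key _ Q hQ rfl) Q
  intro n
  induction n using Nat.strong_induction_on with
  | _ n ih =>
    intro Q hQ hn
    rcases eq_or_lt_of_le hQ with rfl | hlt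
    · rw [autGroup_block hM hF he Relation.ReflTransGen.refl]
      rintro ⟨α, hα⟩
      obtain ⟨g, hgT, hgN, hg⟩ := mem_autInducedBy_iff.1 hα
      obtain ⟨a, b, hab, ⟨k, hk⟩, hreg⟩ := exists_pParts hM.1 g
      have hcen := h (g ^ b) ((pairStab Q e).pow_mem hgT b) hreg
      have hga : ∀ x : Q, ((α x : Q) : G) = g ^ a * x * (g ^ a)⁻¹ := by
        intro x
        rw [hg x]
        have h := hcen (x : G) x.2
        conv_lhs => rw [← hab]
        calc g ^ a * g ^ b * (x : G) * (g ^ a * g ^ b)⁻¹
            = g ^ a * (g ^ b * x) * (g ^ b)⁻¹ * (g ^ a)⁻¹ := by group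
          _ = g ^ a * ((x : G) * g ^ b) * (g ^ b)⁻¹ * (g ^ a)⁻¹ := by rw [h]
          _ = g ^ a * x * (g ^ a)⁻¹ := by group
      refine ⟨k, Subtype.ext ?_⟩
      have hiter : ∀ (m : ℕ) (x : Q), (((α ^ m) x : Q) : G) =
          (g ^ a) ^ m * x * ((g ^ a) ^ m)⁻¹ := by
        intro m
        induction m with
        | zero => intro x; simp
        | succ m ihm =>
          intro x
          rw [pow_succ' α, MulAut.mul_apply, hga, ihm]
          rw [show (g ^ a) ^ (m + 1) = g ^ a * (g ^ a) ^ m from pow_succ' _ _]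
          group
      show α ^ p ^ k = 1
      refine MulEquiv.ext fun x => Subtype.ext ?_
      rw [hiter, orderOf_dvd_iff_pow_eq_one.1 hk]
      simp
    · obtain ⟨f, ⟨hf, hle⟩, -⟩ := existsUnique_subpair hM hDp he Q hQ
      -- every subgroup of the normal defect group is fully normalized
      have hfn : F.IsFullyNormalized Q := by
        refine ⟨hQ, fun R hR => ?_⟩
        obtain ⟨g, rfl, -⟩ := (isConj_block_iff hM hF hf hle).1 hR
        rw [← card_map_conj (FusionSystem.normalizerIn D (Q.map (MulAut.conj g).toMonoidHom)) g⁻¹]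
        refine Subgroup.card_le_of_le ?_
        rintro _ ⟨y, ⟨hyD, hyN⟩, rfl⟩
        refine ⟨hconjD g⁻¹ y hyD, mem_normalizer_of_forall_mem fun q hq => ?_⟩
        have h1 := (Subgroup.mem_normalizer_iff.1 hyN (g * q * g⁻¹)).1 ⟨q, hq, rfl⟩
        obtain ⟨q', hq', he'⟩ := h1
        have e2 : g⁻¹ * y * g⁻¹⁻¹ * q * (g⁻¹ * y * g⁻¹⁻¹)⁻¹ = q' := by
          calc g⁻¹ * y * g⁻¹⁻¹ * q * (g⁻¹ * y * g⁻¹⁻¹)⁻¹
              = g⁻¹ * (y * (g * q * g⁻¹) * y⁻¹) * g := by group
            _ = g⁻¹ * (g * q' * g⁻¹) * g := by rw [← he']; rfl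
            _ = q' := by group
        show g⁻¹ * y * g⁻¹⁻¹ * q * (g⁻¹ * y * g⁻¹⁻¹)⁻¹ ∈ Q
        rwa [e2]
      have hQP : Q ≤ pairStab Q f :=
        (le_inf hQ Subgroup.le_normalizer).trans (normP_le_pairStab hM hDp hQ hf he hle)
      obtain ⟨F₁, hF₁, hcoef⟩ := exists_stabBlock hM (hDp.to_le hQ) hf hQP
        (cent_le_pairStab Q f) le_rfl
      have hrec : F.IsReceptive Q := isReceptive_block hM hF hf hle
        (isDefect_centP_of_normP hM hDp hQ hf he hle hF₁ hcoef
          ((fullyNormalized_iff hM hF hf hle hF₁ hcoef).1 hfn))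
      rintro ⟨α, hα⟩
      have hα' := hα
      rw [autGroup_block hM hF hf hle] at hα'
      obtain ⟨t, -, htN, ht⟩ := mem_autInducedBy_iff.1 hα'
      obtain ⟨ψ, hψ, hψe⟩ := FusionSystem.exists_extension_of_normalizes hrec hα
        (le_refl (FusionSystem.normalizerIn D Q)) (by
          intro g hg hgN
          refine mem_autInducedBy_iff.2 ⟨t * g * t⁻¹, hconjD t g hg.1,
            (Subgroup.normalizer (Q : Set G)).mul_mem
              ((Subgroup.normalizer (Q : Set G)).mul_mem htN hgN)
              ((Subgroup.normalizer (Q : Set G)).inv_mem htN), fun x => ?_⟩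
          have e1 := ht (α⁻¹ x)
          rw [MulAut.apply_inv_self] at e1
          show ((α (Q.normalizerMonoidHom ⟨g, hgN⟩ (α⁻¹ x)) : Q) : G) = _
          rw [ht]
          show t * (g * ((α⁻¹ x : Q) : G) * g⁻¹) * t⁻¹ = _
          rw [e1]
          group)
      obtain ⟨hS, z, hz, hzS, -⟩ := (hF.2 _ _).1 hψ
      set S := Q ⊔ FusionSystem.normalizerIn D Q with hSdef
      have hS' : S = FusionSystem.normalizerIn D Q :=
        sup_eq_right.2 (le_inf hQ Subgroup.le_normalizer)
      have hαz : ∀ x : Q, ((α x : Q) : G) = z * x * z⁻¹ := fun x => by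
        rw [← hψe x, hz]
      have hzQ : z ∈ Subgroup.normalizer (Q : Set G) := mem_normalizer_of_forall_mem fun q hq => by
        rw [← hαz ⟨q, hq⟩]; exact (α ⟨q, hq⟩).2
      have hzN : z ∈ Subgroup.normalizer (S : Set G) := mem_normalizer_of_forall_mem fun q hq => by
        rw [hS'] at hq ⊢
        exact ⟨hconjD z q hq.1, (Subgroup.normalizer (Q : Set G)).mul_mem
          ((Subgroup.normalizer (Q : Set G)).mul_mem hzQ hq.2)
          ((Subgroup.normalizer (Q : Set G)).inv_mem hzQ)⟩
      have hlt' : Nat.card D - Nat.card S < n := by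
        have hQS : Q < S := by
          rw [hS']
          exact exists_lt_normalizing hDp hlt
        have h1 : Nat.card Q < Nat.card S := by
          by_contra hc
          exact hQS.ne (Subgroup.eq_of_le_of_card_ge hQS.le (Nat.le_of_not_lt hc))
        have h2 : Nat.card S ≤ Nat.card D := Subgroup.card_le_of_le hS
        omega
      have hβ : S.normalizerMonoidHom ⟨z, hzN⟩ ∈ F.autGroup S :=
        (F.mem_autGroup_iff hS).2 (F.mem_of_apply_eq hψ fun x => (hz x).symm)
      obtain ⟨k, hk⟩ := ih _ hlt' S hS rfl ⟨_, hβ⟩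
      refine ⟨k, Subtype.ext ?_⟩
      show α ^ p ^ k = 1
      have hα2 : α = Q.normalizerMonoidHom ⟨z, hzQ⟩ :=
        MulEquiv.ext fun x => Subtype.ext (hαz x)
      have hk' : (S.normalizerMonoidHom ⟨z, hzN⟩) ^ p ^ k = 1 := congrArg Subtype.val hk
      rw [← map_pow] at hk'
      rw [hα2, ← map_pow]
      refine MulEquiv.ext fun x => Subtype.ext ?_
      have h1 := congrArg Subtype.val
        (DFunLike.congr_fun hk' ⟨x, Subgroup.mem_sup_left x.2⟩)
      exact h1

end CfsgLib.Blocks.EqualDegree
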