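import Cfsg.Agent.Lib.Blocks.CentralQuotient
import Cfsg.Agent.Lib.Blocks.Covering

/-!
# Pushing functions forward along a homomorphism
-/

namespace CfsgLib.Blocks.EqualDegree

open Cfsg CfsgLib.CharTheory CfsgLib.Blocks
open scoped ComplexConjugate

set_option linter.unusedVariables false
set_option linter.unusedSectionVars false
set_option linter.style.haveILetI false

universe u v

variable {K : Type u} [Group K] [Fintype K] {H : Type v} [Group H] [Fintype H]

open Classical in
/-- The sum of a function over the fibres of a homomorphism. -/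
noncomputable def pushFn (π : K →* H) (f : K → ℂ) : H → ℂ :=
  fun q => ∑ k ∈ Finset.univ.filter (fun k => π k = q), f k

theorem sum_pushFn (π : K →* H) (f : K → ℂ) (g : H → ℂ) :
    ∑ q, pushFn π f q * g q = ∑ k, f k * g (π k) := by
  classical
  rw [← Finset.sum_fiberwise (Finset.univ : Finset K) (fun k => π k)]
  refine Finset.sum_congr rfl fun q _ => ?_
  rw [pushFn, Finset.sum_mul]
  exact Finset.sum_congr rfl fun k hk => by rw [(Finset.mem_filter.1 hk).2]

theorem omega_pushFn (π : K →* H) (f : K → ℂ) (η : H → ℂ) :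
    omega η (pushFn π f) = omega (fun k => η (π k)) f := by
  rw [omega, omega, sum_pushFn, map_one]

theorem pushFn_eq_zero (π : K →* H) {f : K → ℂ} {q : H} (h : ∀ k, π k = q → f k = 0) :
    pushFn π f q = 0 := by
  classical
  exact Finset.sum_eq_zero fun k hk => h k (Finset.mem_filter.1 hk).2

theorem pushFn_isClassFunction {π : K →* H} (hπ : Function.Surjective π) {f : K → ℂ}
    (hf : IsClassFunction K f) : IsClassFunction H (pushFn π f) := by
  classical
  intro q t
  obtain ⟨s, rfl⟩ := hπ t
  simp only [pushFn, Finset.sum_filter]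
  refine (Fintype.sum_equiv (MulAut.conj s).toEquiv _ _ fun k => ?_).symm
  show (if π k = q then f k else 0) =
    if π (s * k * s⁻¹) = π s * q * (π s)⁻¹ then f (s * k * s⁻¹) else 0
  simp only [map_mul, map_inv, mul_left_inj, mul_right_inj, hf k s]

/-- Inner products with pullbacks along a surjection. -/
theorem classInner_comp_surjective {π : K →* H} (hπ : Function.Surjective π) {χ : H → ℂ}
    (hχ : IsClassFunction H χ) (θ : IrrCharacter K) :
    classInner (fun k => χ (π k)) (θ : K → ℂ) = ∑ η : IrrCharacter H,
      classInner χ (η : H → ℂ) * classInner (fun k => (η : H → ℂ) (π k)) (θ : K → ℂ) := by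
  simp only [← classInner_smul_left, ← classInner_sum_left]
  congr 1
  funext k
  conv_lhs => rw [congrFun (eq_sum_irr hχ) (π k)]
  simp [Finset.sum_apply]

theorem exists_pull_constituent {π : K →* H} (hπ : Function.Surjective π) {χ : H → ℂ}
    (hχ : IsClassFunction H χ) {θ : IrrCharacter K}
    (h : classInner (fun k => χ (π k)) (θ : K → ℂ) ≠ 0) :
    ∃ η : IrrCharacter H, classInner χ (η : H → ℂ) ≠ 0 ∧
      ∀ k, (θ : K → ℂ) k = (η : H → ℂ) (π k) := by
  rw [classInner_comp_surjective hπ hχ] at h
  obtain ⟨η, -, hη⟩ := Finset.exists_ne_zero_of_sum_ne_zero h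
  refine ⟨η, left_ne_zero_of_mul hη, fun k => ?_⟩
  by_contra hne
  exact right_ne_zero_of_mul hη (classInner_irr_ne (isIrrCharacter_comp_surjective η.2 π hπ) θ.2
    fun e => hne (congrFun e k).symm)

theorem classInner_pull {π : K →* H} (hπ : Function.Surjective π) {χ : H → ℂ}
    (hχ : IsClassFunction H χ) (η : IrrCharacter H) :
    classInner (fun k => χ (π k))
        ((⟨fun k => (η : H → ℂ) (π k), isIrrCharacter_comp_surjective η.2 π hπ⟩ :
          IrrCharacter K) : K → ℂ) = classInner χ (η : H → ℂ) := by
  classical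
  rw [classInner_comp_surjective hπ hχ, Finset.sum_eq_single η]
  · rw [classInner_irr_self (isIrrCharacter_comp_surjective η.2 π hπ), mul_one]
  · intro η' _ hne
    rw [classInner_irr_ne (isIrrCharacter_comp_surjective η'.2 π hπ)
      (isIrrCharacter_comp_surjective η.2 π hπ), mul_zero]
    intro e
    exact hne (Subtype.ext (funext fun q => by obtain ⟨k, rfl⟩ := hπ q; exact congrFun e k))
  · simp

/-- Regular elements correspond under a surjection with central `p`-kernel. -/
theorem sum_regular_hom {p : ℕ} {M : Ideal AlgInt} (hM : IsPModular p M) {π : K →* H}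
    (hπ : Function.Surjective π) (hker : IsPGroup p π.ker) (hc : π.ker ≤ Subgroup.center K)
    (F : H → ℂ) :
    ∑ y ∈ Finset.univ.filter (fun y : K => ¬ p ∣ orderOf y), F (π y) =
      ∑ q ∈ Finset.univ.filter (fun q : H => ¬ p ∣ orderOf q), F q := by
  classical
  haveI : Fintype (K ⧸ π.ker) := Fintype.ofFinite _
  set e := QuotientGroup.quotientKerEquivOfSurjective π hπ with he
  have h := sum_regular_quot hM hker hc fun q => F (e q)
  have he' : ∀ y : K, e (y : K ⧸ π.ker) = π y := fun y => rfl
  simp only [he'] at h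
  rw [h]
  refine Finset.sum_equiv e.toEquiv (fun q => ?_) fun q _ => rfl
  simp only [Finset.mem_filter, Finset.mem_univ, true_and]
  show _ ↔ ¬ p ∣ orderOf (e q)
  rw [MulEquiv.orderOf_eq]

end CfsgLib.Blocks.EqualDegree
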