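import Cfsg.Agent.Lib.Blocks.EqualDegree.Main
import Cfsg.Agent.Lib.Blocks.EqualDegree.Push
import Cfsg.Agent.Lib.Blocks.Inflation
import Cfsg.Agent.Lib.Blocks.NormalPair
import Cfsg.Agent.Lib.CharTheory.Degree
import Cfsg.Agent.Lib.CoprimeGen
import Cfsg.Agent.Lib.Elementary

/-!
# Equal height-zero degrees over a normal defect group
-/

namespace CfsgLib.Blocks.EqualDegree

open Cfsg CfsgLib.CharTheory CfsgLib.Blocks
open scoped ComplexConjugate commutatorElement

set_option linter.unusedVariables false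
set_option linter.unusedSectionVars false
set_option linter.style.haveILetI false

universe u

variable {p : ℕ} {M : Ideal AlgInt}

theorem classInner_reindex {A : Type u} [Group A] [Fintype A] (e : A ≃* A) (f g : A → ℂ) :
    classInner (fun a => f (e a)) (fun a => g (e a)) = classInner f g := by
  simp only [classInner]
  rw [Fintype.sum_equiv e.toEquiv (fun a => f (e a) * conj (g (e a))) (fun a => f a * conj (g a))
    fun a => rfl]

/-- Characters of `L` over characters in one block of `C`, when the image of `C` contains every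
regular element of `L`, lie in one block. -/
theorem sameBlock_of_pull (hM : IsPModular p M) {L C : Type u} [Group L] [Fintype L] [Group C]
    [Fintype C] {R : Subgroup L} [R.Normal] [Fintype R] {π : C →* R}
    (hπ : Function.Surjective π) (hker : IsPGroup p π.ker) (hc : π.ker ≤ Subgroup.center C)
    (hreg : ∀ l : L, ¬ p ∣ orderOf l → l ∈ R) {Ψ Ψ' : IrrCharacter L} {θ θ' : IrrCharacter C}
    (h : classInner (fun k => (Ψ : L → ℂ) (π k)) (θ : C → ℂ) ≠ 0)
    (h' : classInner (fun k => (Ψ' : L → ℂ) (π k)) (θ' : C → ℂ) ≠ 0)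
    (hs : SameBlock M (θ : C → ℂ) (θ' : C → ℂ)) :
    SameBlock M (Ψ : L → ℂ) (Ψ' : L → ℂ) := by
  classical
  refine sameBlock_of_regular hM fun g hg => ?_
  set f : L → ℂ := fun x => if IsConj g x then 1 else 0 with hf
  set δ : C → ℂ := fun k => if ¬ p ∣ orderOf k then f (π k) else 0 with hδ
  have hfcl : IsClassFunction L f := isClassFunction_classInd g
  have hδcl : IsClassFunction C δ := by
    intro a b
    simp only [hδ, conj_orderOf, map_mul, map_inv]
    rw [show f (((π b * π a * (π b)⁻¹ : R)) : L) = f ((π a : R) : L) by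
      simp only [Subgroup.coe_mul, Subgroup.coe_inv]; exact hfcl _ _]
  have hfsupp : ∀ x : L, f x ≠ 0 → ¬ p ∣ orderOf x := by
    intro x hx hd
    simp only [hf, ne_eq, ite_eq_right_iff, one_ne_zero, imp_false, not_not] at hx
    obtain ⟨c, rfl⟩ := isConj_iff.1 hx
    rw [conj_orderOf] at hd
    exact hg hd
  have key : ∀ (Φ : IrrCharacter L) (φ : IrrCharacter C),
      classInner (fun k => (Φ : L → ℂ) (π k)) (φ : C → ℂ) ≠ 0 →
      clv g Φ = omega (φ : C → ℂ) δ := by
    intro Φ φ hne
    obtain ⟨η, hη, hφ⟩ := exists_pull_constituent hπ (χ := fun r : R => (Φ : L → ℂ) r)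
      (fun a b => isClassFunction_irr Φ.2 (a : L) (b : L)) hne
    show centralChar (Φ : L → ℂ) g = _
    rw [← omega_classInd g Φ, omega_eq_of_constituent hη hfcl (supp_classInd (hreg g hg))]
    have hden : (φ : C → ℂ) 1 = (η : R → ℂ) 1 := by rw [hφ, map_one]
    rw [omega, omega, hden]
    refine congrArg (· / (η : R → ℂ) 1) ?_
    rw [← Finset.sum_filter_of_ne (p := fun r : R => ¬ p ∣ orderOf r) (fun r _ hr => by
        have h1 := hfsupp (r : L) (left_ne_zero_of_mul hr)
        rwa [Subgroup.orderOf_coe] at h1),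
      ← sum_regular_hom hM hπ hker hc, Finset.sum_filter]
    refine Finset.sum_congr rfl fun k _ => ?_
    simp only [hδ, ite_mul, zero_mul, hφ]
  rw [key Ψ θ h, key Ψ' θ' h']
  exact Zloc_res_congr hM (v := fun φ : IrrCharacter C => omega (φ : C → ℂ) δ)
    (omega_mem_Zloc hM hδcl fun k => by
      simp only [hδ, hf]
      split_ifs <;> first | exact (loc hM).one_mem | exact (loc hM).zero_mem) hs

variable {G : Type u} [Group G] [Fintype G]

/-- Regular elements acting trivially modulo the Frattini subgroup of a normal `p`-subgroup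
centralize it. -/
theorem centralizes_of_frattini [Fact p.Prime] {D : Subgroup G} [D.Normal] (hDp : IsPGroup p D)
    {g : G} (hg : ¬ p ∣ orderOf g)
    (h : ∀ a ∈ Subgroup.zpowers g, ∀ k ∈ D, a * k * a⁻¹ * k⁻¹ ∈ (frattini D).map D.subtype) :
    g ∈ Subgroup.centralizer (D : Set G) := by
  refine CfsgLib.centralize_of_trivial_mod_frattini (A := Subgroup.zpowers g)
    (by rw [Subgroup.normalizer_eq_top (H := D)]; exact le_top) ?_ h (Subgroup.mem_zpowers g)
  obtain ⟨k, hk⟩ := (hDp.to_subgroup (frattini D)).exists_card_eq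
  rw [Nat.card_zpowers, hk]
  exact (((Fact.out : p.Prime).coprime_iff_not_dvd.2 hg).symm).pow_right k

/-- Equal height-zero degrees over a normal defect group force a trivial inertial quotient. -/
theorem regular_stab_centralizes [Fact p.Prime] (hM : IsPModular p M) {B : Set (IrrCharacter G)}
    {D : Subgroup G} [D.Normal] {e : Set (IrrCharacter (Subgroup.centralizer (D : Set G)))}
    (hmax : IsMaximalBrauerPair p M B D e) {d : ℕ}
    (hd : ∀ χ : IrrCharacter G, χ ∈ B → blockHeight p B (χ : G → ℂ) = 0 →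
      charDegree (χ : G → ℂ) = d)
    {x : G} (hx : x ∈ pairStab D e) (hxr : IsPRegular p x) :
    x ∈ Subgroup.centralizer (D : Set G) := by
  classical
  have hp : p.Prime := hM.1
  have hDp : IsPGroup p D := hmax.1.1.1
  have hB : IsPBlock M B := hmax.1.2.1
  have he := hmax.1.1.2
  haveI hCn : (Subgroup.centralizer (D : Set G)).Normal := Subgroup.normal_centralizer
  -- the quotient by the Frattini subgroup
  set N : Subgroup G := (frattini D).map D.subtype with hNdef
  haveI hNn : N.Normal := by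
    have h1 := (CfsgLib.le_normalizer_map_characteristic
      (A := (⊤ : Subgroup G)) (K := D) (by rw [Subgroup.normalizer_eq_top (H := D)]) (frattini D)).1
    exact ⟨fun n hn g => (Subgroup.mem_normalizer_iff.1 (h1 (Subgroup.mem_top g)) n).1 hn⟩
  have hND : N ≤ D := Subgroup.map_subtype_le _
  have hNp : IsPGroup p N := hDp.to_le hND
  haveI := Fintype.ofFinite (G ⧸ N)
  set q : G →* G ⧸ N := QuotientGroup.mk' N with hq
  have hqs : Function.Surjective q := QuotientGroup.mk'_surjective N
  set Db : Subgroup (G ⧸ N) := D.map q with hDb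
  haveI hDbn : Db.Normal := Subgroup.Normal.map inferInstance q hqs
  have hab : ∀ a ∈ Db, ∀ b ∈ Db, a * b = b * a := by
    rintro _ ⟨a, ha, rfl⟩ _ ⟨b, hb, rfl⟩
    have h1 : (⁅(⟨a, ha⟩ : D), ⟨b, hb⟩⁆ : D) ∈ frattini D :=
      CfsgLib.commutator_le_frattini_pGroup hDp
        (Subgroup.commutator_mem_commutator (Subgroup.mem_top _) (Subgroup.mem_top _))
    have h2 : q (a * b * a⁻¹ * b⁻¹) = 1 :=
      (QuotientGroup.eq_one_iff _).2 ⟨_, h1, rfl⟩
    rw [map_mul, map_mul, map_mul, map_inv, map_inv, mul_inv_eq_one, mul_inv_eq_iff_eq_mul] at h2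
    exact h2
  set L := Subgroup.centralizer (Db : Set (G ⧸ N)) with hL
  haveI hLn : L.Normal := Subgroup.normal_centralizer
  haveI := Fintype.ofFinite L
  haveI := Fintype.ofFinite (Subgroup.centralizer (D : Set G))
  have hcg : ∀ g : G, ¬ p ∣ orderOf g → q g ∈ L → g ∈ Subgroup.centralizer (D : Set G) := by
    intro g hg hgL
    refine centralizes_of_frattini hDp hg fun a ha k hk => ?_
    obtain ⟨i, rfl⟩ := ha
    rw [← hNdef, ← QuotientGroup.eq_one_iff]
    show q (g ^ i * k * (g ^ i)⁻¹ * k⁻¹) = 1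
    have h1 : q k * q (g ^ i) = q (g ^ i) * q k := by
      rw [map_zpow]
      exact L.zpow_mem hgL i (q k) ⟨k, hk, rfl⟩
    rw [map_mul, map_mul, map_mul, map_inv, map_inv, ← h1]
    group
  have hCL : ∀ c : G, c ∈ Subgroup.centralizer (D : Set G) → q c ∈ L := by
    rintro c hc _ ⟨k, hk, rfl⟩
    rw [← map_mul, ← map_mul, hc k hk]
  let π₀ : Subgroup.centralizer (D : Set G) →* L :=
    (q.comp (Subgroup.centralizer (D : Set G)).subtype).codRestrict L fun c => hCL _ c.2
  have hπ₀ : ∀ c, ((π₀ c : L) : G ⧸ N) = q c := fun c => rfl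
  set R : Subgroup L := π₀.range with hR
  haveI hRn : R.Normal := by
    refine ⟨fun r hr l => ?_⟩
    obtain ⟨c, rfl⟩ := hr
    obtain ⟨g, hg⟩ := hqs (l : G ⧸ N)
    refine ⟨⟨g * c * g⁻¹, hCn.conj_mem c c.2 g⟩, Subtype.ext ?_⟩
    show q (g * c * g⁻¹) = (l : G ⧸ N) * q c * (l : G ⧸ N)⁻¹
    rw [map_mul, map_mul, map_inv, hg]
  haveI := Fintype.ofFinite R
  let π : Subgroup.centralizer (D : Set G) →* R := π₀.rangeRestrict
  have hπ : Function.Surjective π := π₀.rangeRestrict_surjective
  have hπv : ∀ c, (((π c : R) : L) : G ⧸ N) = q c := fun c => rfl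
  have hker : ∀ c ∈ π.ker, (c : G) ∈ N := fun c hc => by
    rw [← QuotientGroup.eq_one_iff]
    have := congrArg (fun r : R => (((r : L)) : G ⧸ N)) (MonoidHom.mem_ker.1 hc)
    exact this
  have hkerp : IsPGroup p π.ker := fun c => by
    obtain ⟨k, hk⟩ := hNp ⟨_, hker c c.2⟩
    refine ⟨k, Subtype.ext (Subtype.ext ?_)⟩
    have := congrArg Subtype.val hk
    simpa using this
  have hkerc : π.ker ≤ Subgroup.center _ := fun c hc => by
    rw [Subgroup.mem_center_iff]
    exact fun a => Subtype.ext (a.2 (c : G) (hND (hker c hc))).symm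
  have hregR : ∀ l : L, ¬ p ∣ orderOf l → l ∈ R := by
    intro l hl
    rw [← Subgroup.orderOf_coe] at hl
    obtain ⟨g, hg, hgr⟩ := Inflation.exists_regular_lift N hNp hl
    have hgC : g ∈ Subgroup.centralizer (D : Set G) := hcg g hgr (by
      rw [hq, QuotientGroup.mk'_apply, hg]; exact l.2)
    exact ⟨⟨g, hgC⟩, Subtype.ext hg⟩
  -- transport by elements of `G`
  have hconj : ∀ (n : G) (Ψ : IrrCharacter L) (θ : IrrCharacter (Subgroup.centralizer (D : Set G))),
      classInner (fun c => (Ψ : L → ℂ) (π c)) (θ : _ → ℂ) ≠ 0 →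
      classInner (fun c => (irrPull (conjE (mem_normalizer_normal (N := L) (q n))) Ψ : L → ℂ) (π c))
        (irrPull (conjE (mem_normalizer_normal (N := Subgroup.centralizer (D : Set G)) n)) θ : _ → ℂ)
        ≠ 0 := by
    intro n Ψ θ h
    have e1 : (fun c => (irrPull (conjE (mem_normalizer_normal (N := L) (q n))) Ψ : L → ℂ) (π c)) =
        fun c => (Ψ : L → ℂ) (π (conjE
          (mem_normalizer_normal (N := Subgroup.centralizer (D : Set G)) n) c)) := by
      funext c
      rw [irrPull_apply]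
      refine congrArg _ (Subtype.ext ?_)
      show (q n)⁻¹ * q c * q n = q (n⁻¹ * c * n)
      rw [map_mul, map_mul, map_inv]
    rw [e1]
    exact (classInner_reindex (conjE (mem_normalizer_normal
      (N := Subgroup.centralizer (D : Set G)) n)) (fun c => (Ψ : L → ℂ) (π c)) (θ : _ → ℂ)).trans_ne h
  -- a character of `B` trivial on `N`, and its constituents
  obtain ⟨χb, hχb⟩ := Inflation.exists_inflIrr_mem N hM hNp hB
  obtain ⟨Ψ0, hΨ0⟩ := exists_res_constituent (N := L) χb
  obtain ⟨θb, hθb⟩ := exists_res_constituent (N := R) Ψ0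
  let θ0 : IrrCharacter (Subgroup.centralizer (D : Set G)) :=
    ⟨fun c => (θb : R → ℂ) (π c), isIrrCharacter_comp_surjective θb.2 π hπ⟩
  have hθ0 : classInner (fun c => (Ψ0 : L → ℂ) (π c)) (θ0 : _ → ℂ) ≠ 0 := by
    have h1 := classInner_pull hπ (χ := fun r : R => (Ψ0 : L → ℂ) r)
      (fun a b => isClassFunction_irr Ψ0.2 (a : L) (b : L)) θb
    exact h1.trans_ne hθb
  -- `θ0` lies in a block below `B`
  have hpair0 : IsBrauerPairOf p M B D (blockOf M (θ0 : _ → ℂ)) := by
    refine ⟨⟨hDp, blockOf_isPBlock θ0⟩, hB, (forall_memIdeal_iff_lam hM (nice_blockCoeff hM hB)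
      (blockOf_isPBlock θ0) (mem_blockOf_self hM θ0)).2 ?_⟩
    rw [lam, brauerOmega_eq_omega]
    have hpc : IsClassFunction (G ⧸ N) (pushFn q (blockCoeff B)) :=
      pushFn_isClassFunction hqs (blockCoeff_isClassFunction B)
    have hsuppL : ∀ y ∉ L, pushFn q (blockCoeff B) y = 0 := fun y hy =>
      pushFn_eq_zero q fun g hg => blockCoeff_off_centralizer hM hDp hB fun hgC =>
        hy (hg ▸ hCL g hgC)
    have hsuppR : ∀ l : L, l ∉ R → pushFn q (blockCoeff B) (l : G ⧸ N) = 0 := fun l hl =>
      pushFn_eq_zero q fun g hg => blockCoeff_off_centralizer hM hDp hB fun hgC =>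
        hl ⟨⟨g, hgC⟩, Subtype.ext hg⟩
    have e1 : omega (Inflation.inflIrr N χb : G → ℂ) (blockCoeff B) = 1 := by
      rw [← cf_ind, omega_cf, ind_of_mem hχb]
    have e2 : (fun r : R => pushFn q (blockCoeff B) ((r : L) : G ⧸ N)) =
        pushFn π fun c => blockCoeff B (c : G) := by
      funext r
      simp only [pushFn]
      rw [← Finset.sum_filter_of_ne (p := fun g => g ∈ Subgroup.centralizer (D : Set G))
        (fun g _ hg => by
          by_contra hgC
          exact hg (blockCoeff_off_centralizer hM hDp hB hgC))]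
      refine Finset.sum_bij' (fun g hg => (⟨g, (Finset.mem_filter.1 hg).2⟩ :
          Subgroup.centralizer (D : Set G))) (fun c _ => (c : G)) ?_ ?_ (fun _ _ => rfl)
        (fun _ _ => rfl) (fun _ _ => rfl)
      · intro g hg
        simp only [Finset.mem_filter, Finset.mem_univ, true_and] at hg ⊢
        exact Subtype.ext (Subtype.ext hg.1)
      · intro c hc
        simp only [Finset.mem_filter, Finset.mem_univ, true_and] at hc ⊢
        exact ⟨by rw [← hπv, hc], c.2⟩
    have e3 : omega (θ0 : _ → ℂ) (fun c : Subgroup.centralizer (D : Set G) => blockCoeff B c) =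
        omega (Inflation.inflIrr N χb : G → ℂ) (blockCoeff B) := by
      calc omega (θ0 : _ → ℂ) (fun c : Subgroup.centralizer (D : Set G) => blockCoeff B c)
          = omega (θb : R → ℂ) (pushFn π fun c => blockCoeff B (c : G)) :=
            (omega_pushFn π _ (θb : R → ℂ)).symm
        _ = omega (Ψ0 : L → ℂ) (fun l : L => pushFn q (blockCoeff B) (l : G ⧸ N)) := by
            rw [← e2]
            exact (omega_eq_of_constituent hθb (fun a b => hpc (a : G ⧸ N) (b : G ⧸ N))
              hsuppR).symm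
        _ = omega (χb : G ⧸ N → ℂ) (pushFn q (blockCoeff B)) :=
            (omega_eq_of_constituent hΨ0 hpc hsuppL).symm
        _ = omega (Inflation.inflIrr N χb : G → ℂ) (blockCoeff B) := omega_pushFn q _ _
    rw [e3, e1, res_one]
  obtain ⟨m, hm, hrot⟩ := pairs_orbit hM hmax hpair0
  obtain ⟨θ1, hθ1, hθ10⟩ : θ0 ∈ rot hm e := hrot ▸ mem_blockOf_self hM θ0
  set Ψ1 := irrPull (conjE (mem_normalizer_normal (N := L) (q m⁻¹))) Ψ0 with hΨ1def
  have hθ1c : classInner (fun c => (Ψ1 : L → ℂ) (π c)) (θ1 : _ → ℂ) ≠ 0 := by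
    have h1 := hconj m⁻¹ Ψ0 θ0 hθ0
    have e1 : irrPull (conjE (mem_normalizer_normal (N := Subgroup.centralizer (D : Set G)) m⁻¹))
        θ0 = θ1 := by
      refine Subtype.ext (funext fun c => ?_)
      rw [← hθ10, irrPull_apply, irrPull_apply]
      exact congrArg _ (Subtype.ext (by simp [mul_assoc]))
    rwa [e1] at h1
  have hΨ1 : classInner (fun l : L => (χb : G ⧸ N → ℂ) l) (Ψ1 : L → ℂ) ≠ 0 := by
    rw [hΨ1def, irrPull_conjE_eq, classInner_res_conjNormFun L _ (isClassFunction_irr χb.2)]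
    exact hΨ0
  -- the block of the quotient
  set Bb := blockOf M (χb : G ⧸ N → ℂ) with hBb
  have hBbp : IsPBlock M Bb := blockOf_isPBlock χb
  have hinfl : ∀ η ∈ Bb, Inflation.inflIrr N η ∈ B := by
    intro η hη
    rw [eq_blockOf hM hB hχb]
    exact (sameBlock_iff_res hM _ _).2 fun g =>
      Inflation.res_clv_ascend hM N g ((sameBlock_iff_res hM _ _).1 hη _)
  have hdegeq : ∀ η : IrrCharacter (G ⧸ N),
      charDegree (Inflation.inflIrr N η : G → ℂ) = charDegree (η : G ⧸ N → ℂ) := by
    intro η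
    have h1 : (charDegree (Inflation.inflIrr N η : G → ℂ) : ℂ) =
        (charDegree (η : G ⧸ N → ℂ) : ℂ) := by
      rw [irr_charDegree_cast, irr_charDegree_cast, Inflation.inflIrr_apply, QuotientGroup.mk_one]
    exact_mod_cast h1
  have hDdef := maximal_isDefectGroup hM hmax
  have hcardD := card_defectGroup hM hB hDdef
  have hidx : Db.index = D.index :=
    Subgroup.index_map_eq D hqs (by rw [hq, QuotientGroup.ker_mk']; exact hND)
  have hfD : (D.index).factorization p = minDv p B := by
    have h1 := congrArg (fun n => n.factorization p) D.card_mul_index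
    simp only [hcardD, Nat.factorization_mul (pow_ne_zero _ hp.ne_zero)
      (Subgroup.index_ne_zero_of_finite (H := D)), Finsupp.add_apply, hp.factorization_pow,
      Finsupp.single_eq_same, blockDefect_eq] at h1
    have := minDv_le_card hM hB
    omega
  have hdv : ∀ η ∈ Bb, dv p (η : G ⧸ N → ℂ) = minDv p B := by
    intro η hη
    have h1 : dv p (Inflation.inflIrr N η : G → ℂ) = dv p (η : G ⧸ N → ℂ) := by
      rw [dv, dv, hdegeq]
    refine le_antisymm ?_ (h1 ▸ minDv_le (hinfl η hη))
    obtain ⟨n, ρ, hρ, hη'⟩ := η.2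
    haveI := hρ
    have h2 : charDegree (η : G ⧸ N → ℂ) ∣ Db.index := by
      have h3 := degree_dvd_index_of_abelian_normal ρ Db hab
      have h4 : (charDegree (η : G ⧸ N → ℂ) : ℂ) = (Module.finrank ℂ (Fin n → ℂ) : ℂ) := by
        rw [irr_charDegree_cast, ← hη', Representation.char_one]
      rwa [show charDegree (η : G ⧸ N → ℂ) = Module.finrank ℂ (Fin n → ℂ) by exact_mod_cast h4]
    rw [← hfD, ← hidx, dv]
    exact (Nat.factorization_le_iff_dvd (irr_charDegree_pos η).ne'
      Subgroup.index_ne_zero_of_finite).2 h2 p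
  have hdeg : ∀ η ∈ Bb, charDegree (η : G ⧸ N → ℂ) = d := fun η hη => by
    rw [← hdegeq]
    refine hd _ (hinfl η hη) ((height_zero_iff (hinfl η hη)).2 ?_)
    rw [dv, hdegeq]
    exact hdv η hη
  have hd0 : d ≠ 0 := by
    rw [← hdeg χb (mem_blockOf_self hM χb)]
    exact (irr_charDegree_pos χb).ne'
  have hcardb : Nat.card Db = p ^ blockDefect p Bb := by
    obtain ⟨η, hη, hη0⟩ := exists_height_zero hM hBbp
    rw [hdv η hη] at hη0
    obtain ⟨k, hk⟩ := (hDp.map q).exists_card_eq
    rw [← hDb] at hk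
    have h1 := congrArg (fun n => n.factorization p) Db.card_mul_index
    simp only [hidx, hk, Nat.factorization_mul (pow_ne_zero _ hp.ne_zero)
      (Subgroup.index_ne_zero_of_finite (H := D)), Finsupp.add_apply, hp.factorization_pow,
      Finsupp.single_eq_same, hfD] at h1
    rw [hk, blockDefect_eq, ← hη0]
    congr 1
    omega
  have hDbp : IsPGroup p Db := hDp.map q
  have hpairb : IsBrauerPairOf p M Bb Db (blockOf M (Ψ1 : L → ℂ)) := by
    refine ⟨⟨hDbp, blockOf_isPBlock Ψ1⟩, hBbp, (forall_memIdeal_iff_lam hM (nice_blockCoeff hM hBbp)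
      (blockOf_isPBlock Ψ1) (mem_blockOf_self hM Ψ1)).2 ?_⟩
    rw [lam, brauerOmega_eq_omega,
      ← omega_eq_of_constituent hΨ1 (blockCoeff_isClassFunction Bb)
        (fun y hy => blockCoeff_off_centralizer hM hDbp hBbp hy),
      ← cf_ind, omega_cf, ind_of_mem (mem_blockOf_self hM χb), res_one]
  have hmaxb : IsMaximalBrauerPair p M Bb Db (blockOf M (Ψ1 : L → ℂ)) := by
    refine ⟨hpairb, fun S g hS hle => ?_⟩
    obtain ⟨b, hb, hbmax⟩ := exists_maximal_ge hM ⟨S, g⟩ hS
    refine (Subgroup.eq_of_le_of_card_ge (subpairLE_le hle) ?_).symm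
    calc Nat.card S ≤ Nat.card b.1 := Subgroup.card_le_of_le (subpairLE_le hb)
      _ = Nat.card Db := by
        rw [hcardb, card_defectGroup hM hBbp (maximal_isDefectGroup hM hbmax)]
  -- the element stabilizes the pair downstairs
  have hxN : x ∈ Subgroup.normalizer (D : Set G) := ((mem_pairStab x).1 hx).1
  have hxrot : irrPull (conjE (mem_normalizer_normal (N := Subgroup.centralizer (D : Set G)) x)) θ1 ∈
      e := by
    have h1 := (stabilizesBlock_iff (mem_normalizer_normal x)).1 ((mem_pairStab x).1 hx).2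
    exact h1.le ⟨θ1, hθ1, rfl⟩
  have hsame : SameBlock M (Ψ1 : L → ℂ)
      (irrPull (conjE (mem_normalizer_normal (N := L) (q x))) Ψ1 : L → ℂ) :=
    sameBlock_of_pull hM hπ hkerp hkerc hregR hθ1c (hconj x Ψ1 θ1 hθ1c)
      (sameBlock_of_mem hM he hθ1 hxrot)
  have hst : StabilizesBlock L (blockOf M (Ψ1 : L → ℂ)) (q x) := by
    rw [stabilizesBlock_iff_blockConj]
    have h1 : IsPBlock M (blockConj (q x) (blockOf M (Ψ1 : L → ℂ))) :=
      isPBlock_image _ (blockOf_isPBlock Ψ1)
    rw [eq_blockOf hM h1 ⟨Ψ1, mem_blockOf_self hM Ψ1, rfl⟩]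
    exact blockOf_eq_of_mem hM hsame
  exact hcg x hxr (stab_centralizes hM hd0 hdeg hmaxb hab (mem_normalizer_normal (q x)) hst)

end CfsgLib.Blocks.EqualDegree
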